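import Cfsg.Agent.TwFive.Class
import Cfsg.Agent.Presentations.Carmichael

/-!
The centraliser of an element of order five in the twisted group over the field with four elements.
-/

set_option autoImplicit false

open Cfsg.Lie

namespace Cfsg.Lib.TwFive

open Cfsg.Lib.Chev Cfsg.Lib.TwFi Cfsg.Lib.PrimeGraph

theorem gU_alt :
    gU (aW 0) ^ 3 = 1 ∧ (∀ i : Fin 6, 1 ≤ i.val → gU (aW i.val) ^ 2 = 1) ∧
    (∀ i j : Fin 6, j.val = i.val + 1 → (gU (aW i.val) * gU (aW j.val)) ^ 3 = 1) ∧
    (∀ i j : Fin 6, i.val + 1 < j.val → (gU (aW i.val) * gU (aW j.val)) ^ 2 = 1) ∧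
    (∀ i : Fin 6, gU (aW i.val) * gU xW = gU xW * gU (aW i.val)) ∧ gU (aW 0) ≠ 1 := by
  obtain ⟨vx, -, -, -, va⟩ := val_xyz
  obtain ⟨r1, r2, r3, r4, r5, r6⟩ := a_rels
  have one' : ((1 : GL chevE6.Idx KQuad) : Matrix chevE6.Idx chevE6.Idx KQuad) = toI one := toI_one.symm
  refine ⟨Units.ext ?_, fun i hi => Units.ext ?_, fun i j hj => Units.ext ?_, fun i j hj => Units.ext ?_,
    fun i => Units.ext ?_, fun e => toI_ne r6 ?_⟩
  · rw [Units.val_pow_eq_pow_val, show gU (aW 0) = gU (aW (0 : Fin 6).val) from rfl, (va 0).1, ← toI_powP, one']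
    exact toI_peq r1
  · rw [Units.val_pow_eq_pow_val, (va i).1, ← toI_powP, one']; exact toI_peq (r2 i hi)
  · have hr := r3 ⟨i.val, by omega⟩
    rw [Units.val_pow_eq_pow_val, Units.val_mul, (va i).1, (va j).1, ← toI_pm, ← toI_powP, one', hj]
    exact toI_peq hr
  · rw [Units.val_pow_eq_pow_val, Units.val_mul, (va i).1, (va j).1, ← toI_pm, ← toI_powP, one']
    exact toI_peq (r4 i j hj)
  · rw [Units.val_mul, Units.val_mul, (va i).1, vx, ← toI_pm, ← toI_pm]; exact toI_peq (r5 i)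
  · rw [← one', show toI (aP 0) = toI (aP (0 : Fin 6).val) from rfl, ← (va 0).1, show gU (aW (0 : Fin 6).val) = gU (aW 0) from rfl, e]

variable {K : Type*} [Field K] [Fintype K]

/-- The field with sixteen elements. -/
theorem card_cent_el (hK : Fintype.card K = 4) (σ : KQuad →+* K) :
    Nat.card {g : GL chevE6.Idx K // g ∈ twistedE6 K 2 ∧ g * mapI σ (gU xW) = mapI σ (gU xW) * g} ≤ 100800 := by
  classical
  haveI : Fact (Nat.Prime 2) := ⟨Nat.prime_two⟩
  haveI : Fintype (GaloisField 2 4) := Fintype.ofFinite _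
  have hc : Fintype.card (GaloisField 2 4) = 16 := by
    rw [← Nat.card_eq_fintype_card, GaloisField.card 2 4 (by norm_num)]
    norm_num
  haveI : Fact (Nat.Prime 5) := ⟨Nat.prime_five⟩
  obtain ⟨l, hl⟩ := exists_prime_orderOf_dvd_card' (G := (GaloisField 2 4)ˣ) 5
    (by rw [Nat.card_units, Nat.card_eq_fintype_card, hc]; norm_num)
  exact card_cent_le hK σ hl hc

/-- The centraliser of the first element of order five. -/
theorem cent_el (hK : Fintype.card K = 4) (σ : KQuad →+* K) :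
    Nonempty (↥(Subgroup.centralizer ({el σ xW} : Set ↥(twistedE6 K 2))) ≃*
      (Multiplicative (ZMod 5) × ↥(alternatingGroup (Fin 8)))) := by
  classical
  haveI : Fact (Nat.Prime 5) := ⟨Nat.prime_five⟩
  obtain ⟨x5, xne, -⟩ := gU_rels
  obtain ⟨a3, a2, ab, af, ac, ane⟩ := gU_alt
  set x := el σ xW
  set C := Subgroup.centralizer ({x} : Set ↥(twistedE6 K 2))
  have hx5 : x ^ 5 = 1 := Subtype.ext (by rw [Subgroup.coe_pow, el_val, ← map_pow, x5, map_one]; rfl)
  have hxne : x ≠ 1 := fun e => xne (mapI_inj σ ((congrArg Subtype.val e).trans (map_one (mapI σ)).symm))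
  have ox : orderOf x = 5 := orderOf_eq_prime hx5 hxne
  let xc : C := ⟨x, Subgroup.mem_centralizer_singleton_iff.2 rfl⟩
  have oxc : orderOf xc = 5 := by rw [← Subgroup.orderOf_coe xc]; exact ox
  let g : Fin (8 - 2) → C := fun i => ⟨el σ (aW i.val), Subgroup.mem_centralizer_singleton_iff.2 (Subtype.ext (by
    show mapI σ (gU (aW i.val)) * mapI σ (gU xW) = mapI σ (gU xW) * mapI σ (gU (aW i.val))
    rw [← map_mul, ← map_mul, ac i]))⟩
  have gv : ∀ i, ((g i : ↥(twistedE6 K 2)) : GL chevE6.Idx K) = mapI σ (gU (aW i.val)) := fun i => rfl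
  obtain ⟨e⟩ := Cfsg.Lib.Presentations.Carmichael.presentation 8 (by norm_num)
  let π := PresentedGroup.toGroup (f := g) (rels :=
      ({r : FreeGroup (Fin (8 - 2)) | ∃ i : Fin (8 - 2), i.val = 0 ∧ r = FreeGroup.of i ^ 3} ∪
       {r | ∃ i : Fin (8 - 2), 1 ≤ i.val ∧ r = FreeGroup.of i ^ 2} ∪
       {r | ∃ i j : Fin (8 - 2), j.val = i.val + 1 ∧ r = (FreeGroup.of i * FreeGroup.of j) ^ 3} ∪
       {r | ∃ i j : Fin (8 - 2), i.val + 1 < j.val ∧ r = (FreeGroup.of i * FreeGroup.of j) ^ 2})) (by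
    rintro r (((⟨i, hi, rfl⟩ | ⟨i, hi, rfl⟩) | ⟨i, j, hj, rfl⟩) | ⟨i, j, hj, rfl⟩) <;>
      simp only [map_pow, map_mul, FreeGroup.lift_apply_of] <;> refine Subtype.ext (Subtype.ext ?_) <;>
      simp only [SubmonoidClass.coe_pow, Subgroup.coe_mul, OneMemClass.coe_one, gv, ← map_mul, ← map_pow]
    · rw [hi, a3, map_one]
    · rw [a2 i hi, map_one]
    · rw [ab i j hj, map_one]
    · rw [af i j hj, map_one])
  let ψ : ↥(alternatingGroup (Fin 8)) →* C := π.comp e.symm.toMonoidHom
  have hψne : ψ (e (PresentedGroup.of (⟨0, by norm_num⟩ : Fin (8 - 2)))) ≠ 1 := by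
    intro h
    rw [MonoidHom.comp_apply, MulEquiv.coe_toMonoidHom, MulEquiv.symm_apply_apply, PresentedGroup.toGroup.of] at h
    exact ane (mapI_inj σ (((congrArg (fun c : C => ((c : ↥(twistedE6 K 2)) : GL chevE6.Idx K)) h)).trans
      (map_one (mapI σ)).symm))
  haveI : IsSimpleGroup ↥(alternatingGroup (Fin 8)) := alternatingGroup.isSimpleGroup (by simp)
  have hψ : Function.Injective ψ := by
    rw [← MonoidHom.ker_eq_bot_iff]
    exact (ψ.normal_ker.eq_bot_or_eq_top).resolve_right fun h => hψne (ψ.mem_ker.1 (h ▸ Subgroup.mem_top _))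
  have hcen : ∀ c : C, Commute xc c := fun c => Subtype.ext (Subgroup.mem_centralizer_singleton_iff.1 c.2).symm
  let φ : Multiplicative (ZMod 5) →* C := MonoidHom.mk' (fun a => xc ^ a.toAdd.val) fun a b => by
    show xc ^ (a.toAdd + b.toAdd).val = _
    rw [ZMod.val_add, ← pow_add]
    conv_rhs => rw [← pow_mod_orderOf, oxc]
  let Φ : Multiplicative (ZMod 5) × ↥(alternatingGroup (Fin 8)) →* C :=
    φ.noncommCoprod ψ fun a b => (hcen _).pow_left _
  have hΦ : Function.Injective Φ := by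
    rw [injective_iff_map_eq_one]
    rintro ⟨a, b⟩ h
    have h' : φ a * ψ b = 1 := h
    have hb : b ∈ Subgroup.center ↥(alternatingGroup (Fin 8)) := by
      rw [Subgroup.mem_center_iff]
      intro d
      refine hψ ?_
      rw [map_mul, map_mul, eq_inv_of_mul_eq_one_right h']
      exact (((hcen (ψ d)).pow_left _).inv_left).eq.symm
    rw [alternatingGroup.center_eq_bot (by simp), Subgroup.mem_bot] at hb
    subst hb
    rw [map_one, mul_one] at h'
    have h5 : orderOf xc ∣ a.toAdd.val := orderOf_dvd_of_pow_eq_one h'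
    rw [oxc] at h5
    have hlt := a.toAdd.val_lt
    have ha : a.toAdd = 0 := (ZMod.val_eq_zero _).1 (Nat.eq_zero_of_dvd_of_lt h5 hlt)
    exact Prod.ext (Multiplicative.toAdd.injective ha) rfl
  have hle : Nat.card C ≤ 100800 := by
    refine le_trans ?_ (card_cent_el hK σ)
    refine Nat.card_le_card_of_injective (fun c => ⟨((c : ↥(twistedE6 K 2)) : GL chevE6.Idx K), c.1.2,
      congrArg Subtype.val (Subgroup.mem_centralizer_singleton_iff.1 c.2)⟩) fun c c' h => ?_
    exact Subtype.ext (Subtype.ext (Subtype.mk.inj h))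
  have hA : Nat.card (Multiplicative (ZMod 5) × ↥(alternatingGroup (Fin 8))) = 100800 := by
    rw [Nat.card_prod, Nat.card_congr Multiplicative.toAdd, Nat.card_zmod]
    have := two_mul_nat_card_alternatingGroup (α := Fin 8)
    rw [Nat.card_perm, Nat.card_fin] at this
    rw [show (Nat.factorial 8) = 40320 from by decide] at this
    omega
  exact ⟨(MulEquiv.ofBijective Φ ((Nat.bijective_iff_injective_and_card Φ).2
    ⟨hΦ, le_antisymm (Nat.card_le_card_of_injective Φ hΦ) (hA ▸ hle)⟩)).symm⟩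

/-- A field with four elements receives the table field. -/
theorem exists_quad (hK : Fintype.card K = 4) : Nonempty (KQuad →+* K) := by
  obtain ⟨p, hp⟩ := CharP.exists K
  haveI := hp
  obtain ⟨n, hp', hn⟩ := FiniteField.card K p
  have h2 : p ∣ 2 ^ 2 := by
    rw [show (2 : ℕ) ^ 2 = 4 from rfl, ← hK, hn]
    exact dvd_pow_self p n.ne_zero
  obtain rfl : p = 2 := (Nat.prime_dvd_prime_iff_eq hp' Nat.prime_two).1 (hp'.dvd_of_dvd_pow h2)
  exact ⟨(FiniteField.ringEquivOfCardEq (KQuad.card_eq.trans hK.symm)).toRingHom⟩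

/-- Conjugate elements have isomorphic centralisers. -/
theorem cent_congr {G : Type*} [Group G] {a b : G} (h : IsConj a b) :
    Nonempty (↥(Subgroup.centralizer ({a} : Set G)) ≃* ↥(Subgroup.centralizer ({b} : Set G))) := by
  obtain ⟨g, rfl⟩ := isConj_iff.1 h
  have e : (Subgroup.centralizer ({a} : Set G)).map (MulAut.conj g).toMonoidHom =
      Subgroup.centralizer ({g * a * g⁻¹} : Set G) := by
    ext y
    rw [Subgroup.mem_map_equiv, Subgroup.mem_centralizer_singleton_iff, Subgroup.mem_centralizer_singleton_iff,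
      MulAut.conj_symm_apply]
    constructor <;> intro h
    · calc y * (g * a * g⁻¹) = g * (g⁻¹ * y * g * a) * g⁻¹ := by group
        _ = g * (a * (g⁻¹ * y * g)) * g⁻¹ := by rw [h]
        _ = g * a * g⁻¹ * y := by group
    · calc g⁻¹ * y * g * a = g⁻¹ * (y * (g * a * g⁻¹)) * g := by group
        _ = g⁻¹ * (g * a * g⁻¹ * y) * g := by rw [h]
        _ = a * (g⁻¹ * y * g) := by group
  exact ⟨((Subgroup.centralizer ({a} : Set G)).equivMapOfInjective (MulAut.conj g).toMonoidHom
    (MulAut.conj g).injective).trans (MulEquiv.subgroupCongr e)⟩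

end Cfsg.Lib.TwFive
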