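import Cfsg.Agent.TwFive.Stab

/-!
A bound for the fixed points of the twisted Frobenius in the centraliser of the torus element.
-/

set_option autoImplicit false

open Cfsg.Lie

namespace Cfsg.Lib.TwFive

open Cfsg.Lib.Chev

variable {L : Type*} [Field L] [CharP L 2] [Fintype L]

/-- The images of the fundamental roots. -/
noncomputable def fS (j : Fin 6) : ℕ := fr (chevE6.simple j.val)

/-- The combinations solving the equations of the fixed torus. -/
def tQ : Fin 6 → Fin 6 → ZMod 15 :=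
  ![![0, 0, 10, 0, 5, 0], ![0, 14, 0, 0, 0, 0], ![0, 0, 1, 0, 13, 10], ![0, 0, 0, 14, 0, 0],
    ![0, 0, 3, 0, 11, 5], ![0, 0, 10, 0, 5, 7]]

/-- The solution line. -/
def tv : Fin 6 → ZMod 15 := ![1, 0, 2, 0, 4, 2]

theorem tor_cert : (∀ j i : Fin 6,
    (∑ k : Fin 6, tQ j k * ((chevE6.cartan i.val (fS k) - 2 * chevE6.cartan i.val (chevE6.simple k.val) : ℤ) : ZMod 15)) =
      if j = 0 then 5 * (chevE6.cartan i.val (chevE6.simple 0) : ZMod 15)
      else (chevE6.cartan i.val (chevE6.simple j.val) : ZMod 15) - tv j * (chevE6.cartan i.val (chevE6.simple 0) : ZMod 15)) ∧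
    (∀ k : Fin 6, fS k < 72) := by
  decide +kernel

/-- The fixed points in the torus. -/
def Tfix (L : Type*) [Field L] [CharP L 2] : Set (GL chevE6.Idx L) :=
  {d | d ∈ chevE6.diagonalSubgroup L ∧ Fp d = d}

theorem chi_fix {c : Fin chevE6.rank → Lˣ} (h : Fp (Ok.tG chevE6 L c) = Ok.tG chevE6 L c) {r : ℕ} (hr : r < 72)
    (hfr : fr r < 72) : chi chevE6 c (fr r) = chi chevE6 c r ^ (2 : ℤ) := by
  have e1 := congrArg Fp (E6.struct.tG_conj_xG (show r < chevE6.nroots from hr) c (1 : L))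
  rw [map_mul, map_mul, map_inv, h, Fp_xG hr, Fp_xG hr, one_pow, mul_one,
    E6.struct.tG_conj_xG (show fr r < chevE6.nroots from hfr), mul_one] at e1
  have h4 := E6.struct.xG_eq_one (show fr r < chevE6.nroots from hfr)
    (t := (chi chevE6 c (fr r) : L) + -((chi chevE6 c r : L) ^ 2))
    (by rw [← E6.struct.ok.xG_mul, ← E6.struct.ok.xG_inv]; exact mul_inv_eq_one.2 e1)
  refine Units.ext ?_
  rw [zpow_ofNat, Units.val_pow_eq_pow_val]
  linear_combination h4

theorem card_Tfix (hcard : Fintype.card L = 16) :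
    ∃ f : ↥(Tfix L) → {a : ZMod 15 // 5 * a = 0}, Function.Injective f := by
  classical
  obtain ⟨g, hg⟩ := IsCyclic.exists_generator (α := Lˣ)
  have h15 : orderOf g = 15 := by
    rw [orderOf_eq_card_of_forall_mem_zpowers hg, Nat.card_eq_fintype_card, Fintype.card_units, hcard]
  have hz : ∀ a b : ℤ, g ^ a = g ^ b ↔ (a : ZMod 15) = (b : ZMod 15) := fun a b => by
    rw [zpow_eq_zpow_iff_modEq, h15, ZMod.intCast_eq_intCast_iff]
  choose n hn using fun u : Lˣ => Subgroup.mem_zpowers_iff.1 (hg u)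
  have hchi : ∀ (c : Fin chevE6.rank → Lˣ) (r : ℕ),
      chi chevE6 c r = g ^ (∑ i, n (c i) * chevE6.cartan i.val r) := fun c r => by
    rw [zpow_sum_fin]
    exact Finset.prod_congr rfl fun i _ => by rw [zpow_mul, hn]
  choose c hc using fun d : ↥(Tfix L) => (E6.struct.ok.diagonalSubgroup_eq (F := L) ▸ d.2.1 : (d : GL chevE6.Idx L) ∈ (Ok.tG chevE6 L).range)
  let ex : ↥(Tfix L) → Fin 6 → ZMod 15 := fun d j => ((∑ i, n (c d i) * chevE6.cartan i.val (chevE6.simple j.val) : ℤ) : ZMod 15)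
  have key : ∀ d j, (j = 0 → 5 * ex d 0 = 0) ∧ (j ≠ 0 → ex d j = tv j * ex d 0) := by
    intro d j
    have hfix : Fp (Ok.tG chevE6 L (c d)) = Ok.tG chevE6 L (c d) := by rw [hc]; exact d.2.2
    have heq : ∀ k : Fin 6, ((∑ i, n (c d i) * (chevE6.cartan i.val (fS k) - 2 * chevE6.cartan i.val (chevE6.simple k.val)) : ℤ) : ZMod 15) = 0 := by
      intro k
      have h := chi_fix hfix (w_lt6 k k).2 (tor_cert.2 k)
      rw [hchi, hchi, ← zpow_mul, hz] at h
      simp only [mul_sub, Finset.sum_sub_distrib, Int.cast_sub, ← mul_left_comm (2 : ℤ), ← Finset.mul_sum]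
      rw [show fS k = fr (chevE6.simple k.val) from rfl, h, mul_comm, sub_self]
    have hsum : (∑ k, tQ j k * ((∑ i, n (c d i) * (chevE6.cartan i.val (fS k) - 2 * chevE6.cartan i.val (chevE6.simple k.val)) : ℤ) : ZMod 15)) = 0 :=
      Finset.sum_eq_zero fun k _ => by rw [heq k, mul_zero]
    have hswap : (∑ i : Fin 6, (n (c d i) : ZMod 15) *
        ∑ k, tQ j k * ((chevE6.cartan i.val (fS k) - 2 * chevE6.cartan i.val (chevE6.simple k.val) : ℤ) : ZMod 15)) = 0 := by
      rw [← hsum]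
      simp only [Finset.mul_sum, Int.cast_sum, Int.cast_mul]
      rw [Finset.sum_comm]
      exact Finset.sum_congr rfl fun k _ => Finset.sum_congr rfl fun i _ => by ring
    simp only [tor_cert.1] at hswap
    constructor
    · intro h0
      subst h0
      simp only [↓reduceIte] at hswap
      simp only [ex, Int.cast_sum, Int.cast_mul, Finset.mul_sum]
      rw [← hswap]
      exact Finset.sum_congr rfl fun i _ => by simp only [Fin.val_zero]; ring
    · intro h0
      simp only [if_neg h0, mul_sub, Finset.sum_sub_distrib, sub_eq_zero] at hswap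
      simp only [ex, Int.cast_sum, Int.cast_mul, Finset.mul_sum]
      refine hswap.trans (Finset.sum_congr rfl fun i _ => ?_)
      simp only [Fin.val_zero]
      ring
  refine ⟨fun d => ⟨ex d 0, (key d 0).1 rfl⟩, fun d d' h => Subtype.ext ?_⟩
  have h0 : ex d 0 = ex d' 0 := congrArg Subtype.val h
  have hall : ∀ j, ex d j = ex d' j := fun j => by
    rcases eq_or_ne j 0 with rfl | hj
    · exact h0
    · rw [(key d j).2 hj, (key d' j).2 hj, h0]
  rw [← hc d, ← hc d']
  refine InvSemi.tG_eq_of_chi fun r => ?_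
  rw [chi_lin (c d) r, chi_lin (c d') r]
  refine Finset.prod_congr rfl fun k _ => congrArg (· ^ _) ?_
  rw [hchi, hchi, hz]
  exact hall k

/-- The free coordinates among the positive roots fixed by the torus element. -/
abbrev Slot (P : Fin 72 → Prop) := {r : Fin 72 // 36 ≤ r.val ∧ ev r.val = 0 ∧ P r}

open scoped Classical in
/-- A product of rational root elements. -/
noncomputable def bp (L : Type*) [Field L] (P : Fin 72 → Prop) (b : Slot P → Bool) : GL chevE6.Idx L :=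
  E6.struct.pw 36 fun r => if h : r < 72 then
    (if h' : 36 ≤ r ∧ ev r = 0 ∧ P ⟨r, h⟩ then (if b ⟨⟨r, h⟩, h'⟩ then 1 else 0) else 0) else 0

variable {l : Lˣ} (hl : orderOf l = 5)
include hl

open scoped Classical in
theorem fixed_pw {P : Fin 72 → Prop} {t : ℕ → L}
    (hP : ∀ r : Fin 72, 36 ≤ r.val → ¬ P r → t r.val = 0)
    (hc : MulAut.conj (Ok.tG chevE6 L (c0 l)) (E6.struct.pw 36 t) = E6.struct.pw 36 t) :
    (∀ r, 36 ≤ r → r < 72 → ev r ≠ 0 → t r = 0) ∧
      (Fp (E6.struct.pw 36 t) = E6.struct.pw 36 t → ∃ b, E6.struct.pw 36 t = bp L P b) := by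
  rw [E6.struct.conjTG_pw] at hc
  have h1 := E6.struct.pw_inj 36 36 rfl le_rfl _ _ hc
  have hE : ∀ r, 36 ≤ r → r < 72 → ev r ≠ 0 → t r = 0 := by
    intro r a b he
    have e := h1 r a b
    have hne : (chi chevE6 (c0 l) r : L) - 1 ≠ 0 := sub_ne_zero.2 fun e =>
      he ((chi_c0_eq_one hl ⟨r, b⟩).1 (Units.ext e))
    exact (mul_eq_zero.1 (show ((chi chevE6 (c0 l) r : L) - 1) * t r = 0 by linear_combination e)).resolve_left hne
  refine ⟨hE, fun hF => ?_⟩
  rw [Fp_pw t hE] at hF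
  have h2 := E6.struct.pw_inj 36 36 rfl le_rfl _ _ hF
  refine ⟨fun x => decide (t x.1.val = 1), E6.struct.pw_congr fun r a b => ?_⟩
  have b' : r < 72 := b
  have h01 : t r = 0 ∨ t r = 1 := by
    rcases mul_eq_zero.1 (show t r * (t r - 1) = 0 by linear_combination h2 r a b) with h | h
    · exact Or.inl h
    · exact Or.inr (sub_eq_zero.1 h)
  simp only [dif_pos b']
  by_cases hh : 36 ≤ r ∧ ev r = 0 ∧ P ⟨r, b'⟩
  · rw [dif_pos hh]
    rcases h01 with h | h <;> simp [h]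
  · rw [dif_neg hh]
    by_cases he : ev r = 0
    · exact hP ⟨r, b'⟩ a fun hp => hh ⟨a, he, hp⟩
    · exact hE r a b' he

/-- The roots made negative by an element of the stabiliser. -/
def negAt (m : Fin 24) (r : Fin 72) : Prop := (stW m r).val < 36

omit hl in
omit [CharP L 2] [Fintype L] in
theorem slot_count : ∀ m : Fin 24,
    (Finset.univ.filter fun r : Fin 72 => 36 ≤ r.val ∧ ev r.val = 0 ∧
      E6.cert.wL ((stabW.getD m.val []).map Fin.val) r.val < 36).card =
    [0, 1, 1, 2, 2, 3, 1, 2, 2, 2, 3, 3, 3, 3, 3, 4, 4, 4, 4, 4, 5, 5, 5, 6].getD m.val 0 ∧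
    (Finset.univ.filter fun r : Fin 72 => 36 ≤ r.val ∧ ev r.val = 0).card = 6 := by
  decide +kernel

/-- The fixed elements commuting with the torus element. -/
def Cfix (l : Lˣ) : Set (GL chevE6.Idx L) :=
  {g | g ∈ chevE6.group L ∧ g * Ok.tG chevE6 L (c0 l) = Ok.tG chevE6 L (c0 l) * g ∧ Fp g = g}

theorem normal_parts {g : GL chevE6.Idx L} (hg : g ∈ Cfix l) :
    ∃ (m : Fin 24) (b1 : Slot (fun _ => True) → Bool) (b2 : Slot (negAt m) → Bool) (n : GL chevE6.Idx L),
      n ∈ chevE6.monomialSubgroup L ∧ Act E6.struct.ok n (stW m) ∧ Fp n = n ∧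
      g = bp L (fun _ => True) b1 * n * bp L (negAt m) b2 := by
  classical
  obtain ⟨hgG, hgx, hgF⟩ := hg
  have hN := okNeg_E6
  set S := E6.struct
  set x := Ok.tG chevE6 L (c0 l) with hxdef
  have hx : x ∈ chevE6.diagonalSubgroup L := S.tG_mem_diag _
  obtain ⟨b, hb, n, hn, M, hM, v, hv, rfl⟩ := S.normal_form hN hgG
  set w := S.wpL M with hwdef
  have hxv : x * v * x⁻¹ ∈ S.UPsi L (Struct.Neg chevE6 w) := by
    have hle : S.UPsi L (Struct.Neg chevE6 w) ≤
        (S.UPsi L (Struct.Neg chevE6 w)).comap (MulAut.conj x).toMonoidHom := by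
      refine (Subgroup.closure_le _).2 ?_
      rintro y ⟨r, t, a, p, rfl⟩
      show x * S.ok.xG r.val t * x⁻¹ ∈ S.UPsi L (Struct.Neg chevE6 w)
      rw [S.tG_conj_xG r.isLt]
      exact Subgroup.subset_closure ⟨r, _, a, p, rfl⟩
    exact hle hv
  have hxn : n * x⁻¹ * n⁻¹ ∈ chevE6.diagonalSubgroup L := S.norm_diag hn (inv_mem hx)
  have e : x * b * (n * x⁻¹ * n⁻¹) * n * (x * v * x⁻¹) = b * n * v := by
    calc x * b * (n * x⁻¹ * n⁻¹) * n * (x * v * x⁻¹) = x * (b * n * v) * x⁻¹ := by group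
      _ = b * n * v := by rw [← hgx]; group
  obtain ⟨eb, ev'⟩ := S.normal_form_unique hN (mul_mem (mul_mem (Subgroup.mem_sup_right hx) hb)
    (Subgroup.mem_sup_right hxn)) hb hM hxv hv e
  obtain ⟨u, hu, d, hd, rfl⟩ := S.borel_decomp hb
  have hxu : x * u * x⁻¹ ∈ chevE6.posUnipotent L :=
    (Subgroup.mem_normalizer_iff.1 (S.diag_normalises_U hx) u).1 hu
  set h := x * d * (n * x⁻¹ * n⁻¹) with hh
  have hhd : h ∈ chevE6.diagonalSubgroup L := mul_mem (mul_mem hx hd) hxn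
  have e2 : x * u * x⁻¹ = u * (d * h⁻¹) := by
    calc x * u * x⁻¹ = (x * (u * d) * (n * x⁻¹ * n⁻¹)) * h⁻¹ := by rw [hh]; group
      _ = _ := by rw [eb, mul_assoc]
  have h0 : d * h⁻¹ ∈ chevE6.posUnipotent L ⊓ chevE6.diagonalSubgroup L := by
    refine Subgroup.mem_inf.2 ⟨?_, mul_mem hd (inv_mem hhd)⟩
    rw [show d * h⁻¹ = u⁻¹ * (u * (d * h⁻¹)) by group, ← e2]
    exact mul_mem (inv_mem hu) hxu
  rw [S.U_inf_H, Subgroup.mem_bot] at h0
  rw [h0, mul_one] at e2
  have hn1 : n * x * n⁻¹ = x := by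
    rw [mul_inv_eq_one, hh, S.diag_comm hx hd, mul_assoc] at h0
    have h3 : x * (n * x⁻¹ * n⁻¹) = 1 := mul_eq_left.1 h0.symm
    have h6 := congrArg (·⁻¹) (eq_inv_of_mul_eq_one_right h3)
    simpa [mul_assoc] using h6
  have hwW : w ∈ Wst l := ⟨S.wpL_mem_WG M, fun r => InvSemi.chi_conj S hM hn1 r⟩
  rw [Wst_eq hl] at hwW
  obtain ⟨m, hm⟩ := hwW
  -- the factors as products of root elements
  obtain ⟨f1, hf1⟩ := InvSemi.exists_pw_posU S hu
  obtain ⟨f2, hf2⟩ := InvSemi.exists_pw_UPsi S hN hM hv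
  have h36 : chevE6.nroots / 2 = 36 := rfl
  rw [h36] at hf1 hf2
  have hc1 : MulAut.conj x u = u := e2
  have hc2 : MulAut.conj x v = v := ev'
  rw [hf1] at hc1
  rw [hf2] at hc2
  obtain ⟨hE1, hB1⟩ := fixed_pw hl (P := fun _ => True) (fun _ _ hp => absurd trivial hp) hc1
  obtain ⟨hE2, hB2⟩ := fixed_pw hl (P := negAt m) (fun r a hp => by
    have : ¬ (w r).val < chevE6.nroots / 2 := by rw [h36, ← hm]; exact hp
    unfold InvSemi.extC
    rw [dif_pos (show r.val < chevE6.nroots from r.isLt), dif_neg fun hh => this (of_decide_eq_true hh.2)]) hc2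
  have hFu : Fp u ∈ chevE6.posUnipotent L := by
    rw [hf1, Fp_pw _ hE1, S.posUnipotent_eq, h36]; exact S.pw_mem _ _
  have hFv : Fp v ∈ S.UPsi L (Struct.Neg chevE6 w) := by
    rw [hf2, Fp_pw _ hE2]
    refine list_prod_mem fun y hy => ?_
    obtain ⟨r, hr, rfl⟩ := List.mem_map.1 hy
    rw [List.mem_range'_1] at hr
    have hn72 : chevE6.nroots = 72 := rfl
    have hrn : r < chevE6.nroots := by omega
    by_cases hneg : (w ⟨r, hrn⟩).val < 36
    · exact Subgroup.subset_closure ⟨⟨r, hrn⟩, _, by show 72 / 2 ≤ r; omega, hneg, rfl⟩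
    · have : InvSemi.extC (InvSemi.negB chevE6 w) f2 r = 0 := by
        simp [InvSemi.extC, InvSemi.negB, h36, hrn, hneg]
      simp only [this, zero_pow two_ne_zero, Ok.xG_zero]
      exact one_mem _
  have hgF' : Fp u * Fp d * Fp n * Fp v = u * d * n * v := by
    rw [← map_mul, ← map_mul, ← map_mul]; exact hgF
  have hbd : u * d ∈ chevE6.borelSubgroup L := mul_mem (S.B_le_of hu) (Subgroup.mem_sup_right hd)
  have hbF : Fp u * Fp d ∈ chevE6.borelSubgroup L :=
    mul_mem (S.B_le_of hFu) (Subgroup.mem_sup_right (Fp_diag hd))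
  have hdd := S.normal_form_cong hN hbd hbF hn (Fp_mono hn) (S.UPsi_le _ hv) (S.UPsi_le _ hFv) hgF'.symm
  set d1 := n * (n⁻¹ * Fp n) * n⁻¹ with hd1
  have hd1m : d1 ∈ chevE6.diagonalSubgroup L := S.norm_diag hn hdd
  have hb' : Fp u * (Fp d * d1) ∈ chevE6.borelSubgroup L :=
    mul_mem (S.B_le_of hFu) (Subgroup.mem_sup_right (mul_mem (Fp_diag hd) hd1m))
  have eF : Fp u * (Fp d * d1) * n * Fp v = u * d * n * v := by
    rw [← hgF', hd1]; group
  obtain ⟨eb', evF⟩ := S.normal_form_unique hN hb' hbd hM hFv hv eF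
  have h5 : u⁻¹ * Fp u ∈ chevE6.posUnipotent L ⊓ chevE6.diagonalSubgroup L :=
    Subgroup.mem_inf.2 ⟨mul_mem (inv_mem hu) hFu, by
      rw [show u⁻¹ * Fp u = u⁻¹ * (Fp u * (Fp d * d1)) * (Fp d * d1)⁻¹ by group, eb', inv_mul_cancel_left]
      exact mul_mem hd (inv_mem (mul_mem (Fp_diag hd) hd1m))⟩
  rw [S.U_inf_H, Subgroup.mem_bot, inv_mul_eq_one] at h5
  obtain ⟨b1, hb1⟩ := hB1 (by rw [← hf1]; exact h5.symm)
  obtain ⟨b2, hb2⟩ := hB2 (by rw [← hf2]; exact evF)
  rw [← h5] at eb'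
  refine ⟨m, b1, b2, d * n, mul_mem (Subgroup.mem_sup_left hd) hn, ?_, ?_, ?_⟩
  · have := S.act_mul (S.act_diag hd) hM
    rw [one_mul, ← hm] at this
    exact this
  · have e5 : Fp d * d1 = d := mul_left_cancel eb'
    rw [map_mul]
    calc Fp d * Fp n = Fp d * d1 * n := by rw [hd1]; group
      _ = d * n := by rw [e5]
  · rw [← hb1, ← hb2, ← hf1, ← hf2, mul_assoc u d n]

/-- The fixed centraliser is small. -/
theorem card_Cfix_le (hcard : Fintype.card L = 16) : Nat.card (Cfix l) ≤ 100800 := by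
  classical
  obtain ⟨f, hf⟩ := card_Tfix (L := L) hcard
  let base : Fin 24 → GL chevE6.Idx L := fun m =>
    if h : ∃ n, n ∈ chevE6.monomialSubgroup L ∧ Act E6.struct.ok n (stW m) ∧ Fp n = n then h.choose else 1
  choose m b1 b2 n hnm hna hnF hg using fun g : ↥(Cfix l) => normal_parts hl g.2
  have hd : ∀ g, n g * (base (m g))⁻¹ ∈ Tfix L := by
    intro g
    have hex : ∃ k, k ∈ chevE6.monomialSubgroup L ∧ Act E6.struct.ok k (stW (m g)) ∧ Fp k = k :=
      ⟨n g, hnm g, hna g, hnF g⟩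
    have hb : base (m g) = hex.choose := dif_pos hex
    obtain ⟨h1, h2, h3⟩ := hex.choose_spec
    rw [← hb] at h1 h2 h3
    obtain ⟨M', hM', hiff⟩ := E6.struct.exists_act (mul_mem (hnm g) (inv_mem h1))
    refine ⟨hiff.1 ?_, by rw [map_mul, map_inv, hnF, h3]⟩
    have e := E6.struct.act_mul hM' h2
    rw [inv_mul_cancel_right] at e
    exact mul_eq_right.1 (E6.struct.act_unique e (hna g))
  let F : ↥(Cfix l) → Σ m : Fin 24, (Slot (fun _ => True) → Bool) × (Slot (negAt m) → Bool) × {a : ZMod 15 // 5 * a = 0} :=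
    fun g => ⟨m g, b1 g, b2 g, f ⟨_, hd g⟩⟩
  let R : (Σ m : Fin 24, (Slot (fun _ => True) → Bool) × (Slot (negAt m) → Bool) × ↥(Tfix L)) → GL chevE6.Idx L :=
    fun y => bp L (fun _ => True) y.2.1 * ((y.2.2.2 : GL chevE6.Idx L) * base y.1) * bp L (negAt y.1) y.2.2.1
  have hF : Function.Injective F := by
    intro g g' h
    let G : ↥(Cfix l) → Σ m : Fin 24, (Slot (fun _ => True) → Bool) × (Slot (negAt m) → Bool) × ↥(Tfix L) :=
      fun g => ⟨m g, b1 g, b2 g, ⟨_, hd g⟩⟩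
    have hR : ∀ g, R (G g) = g.1 := fun g => by
      show bp L (fun _ => True) (b1 g) * (n g * (base (m g))⁻¹ * base (m g)) * bp L (negAt (m g)) (b2 g) = g.1
      rw [inv_mul_cancel_right]; exact (hg g).symm
    have key : ∀ y y' : (Σ m : Fin 24, (Slot (fun _ => True) → Bool) × (Slot (negAt m) → Bool) × ↥(Tfix L)),
        (⟨y.1, y.2.1, y.2.2.1, f y.2.2.2⟩ :
          Σ m : Fin 24, (Slot (fun _ => True) → Bool) × (Slot (negAt m) → Bool) × {a : ZMod 15 // 5 * a = 0}) =
          ⟨y'.1, y'.2.1, y'.2.2.1, f y'.2.2.2⟩ → y = y' := by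
      rintro ⟨a, p, q, s⟩ ⟨a', p', q', s'⟩ e
      obtain ⟨rfl, e⟩ := Sigma.mk.inj_iff.1 e
      have e' := eq_of_heq e
      simp only [Prod.mk.injEq] at e'
      obtain ⟨rfl, rfl, e3⟩ := e'
      obtain rfl := hf e3
      rfl
    have hG : G g = G g' := key (G g) (G g') h
    exact Subtype.ext ((hR g).symm.trans ((congrArg R hG).trans (hR g')))
  refine (Nat.card_le_card_of_injective F hF).trans ?_
  rw [Nat.card_eq_fintype_card, Fintype.card_sigma]
  simp only [Fintype.card_prod, Fintype.card_fun, Fintype.card_bool]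
  have e5 : Fintype.card {a : ZMod 15 // 5 * a = 0} = 5 := by decide +kernel
  have e6 : Fintype.card (Slot fun _ => True) = 6 := by
    rw [Fintype.card_subtype]; simpa using (slot_count 0).2
  have eN : ∀ m : Fin 24, Fintype.card (Slot (negAt m)) =
      [0, 1, 1, 2, 2, 3, 1, 2, 2, 2, 3, 3, 3, 3, 3, 4, 4, 4, 4, 4, 5, 5, 5, 6].getD m.val 0 := fun m => by
    rw [Fintype.card_subtype]
    refine Eq.trans (congrArg Finset.card (Finset.filter_congr fun r _ => ?_)) (slot_count m).1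
    exact and_congr_right' (and_congr_right' (Iff.of_eq (congrArg (· < 36) (stW_val m r))))
  simp only [e5, e6, eN]
  decide

end Cfsg.Lib.TwFive
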