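import Cfsg.Agent.TwFi.Gens
import Cfsg.Agent.TwFive.Data

/-!
Kernel checks for the words of `TwFive.Data`.
-/

set_option autoImplicit false

namespace Cfsg.Lib.TwFive

open Cfsg.Lie Cfsg.Lib.TwFi

/-- The matrix of a word in the generators. -/
def wP (w : List ℕ) : P := prodP (w.map genP)

/-- A generator of the alternating group by number. -/
def aW : ℕ → List ℕ
  | 0 => aW0 | 1 => aW1 | 2 => aW2 | 3 => aW3 | 4 => aW4 | _ => aW5

/-- The matrix of a generator of the alternating group by number. -/
def aP : ℕ → P
  | 0 => aP0 | 1 => aP1 | 2 => aP2 | 3 => aP3 | 4 => aP4 | _ => aP5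

/-- Some entry differs. -/
def differs (A B : P) : Prop :=
  ∃ i j : Fin 78, A.1.testBit (78 * i.val + j.val) ≠ B.1.testBit (78 * i.val + j.val) ∨
    A.2.testBit (78 * i.val + j.val) ≠ B.2.testBit (78 * i.val + j.val)

instance (A B : P) : Decidable (differs A B) := by unfold differs; infer_instance

theorem entry_inj : ∀ a b c d : Bool, bit a + om * bit b = bit c + om * bit d → a = c ∧ b = d := by decide +kernel

theorem mat_ne {A B : P} (h : differs A B) : mat A ≠ mat B := fun e => by
  obtain ⟨i, j, h⟩ := h
  have := entry_inj _ _ _ _ (show bit (A.1.testBit (78 * i.val + j.val)) + om * bit (A.2.testBit (78 * i.val + j.val)) =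
    bit (B.1.testBit (78 * i.val + j.val)) + om * bit (B.2.testBit (78 * i.val + j.val)) from congrFun (congrFun e i) j)
  exact h.elim (fun h => h this.1) (fun h => h this.2)

theorem toI_ne {A B : P} (h : differs A B) : toI A ≠ toI B := fun e => mat_ne h (by
  ext i j
  have := congrFun (congrFun e (eqI.symm i)) (eqI.symm j)
  simpa [toI] using this)

/-- A word moving the second element. -/
def tW : ℕ → List ℕ
  | 0 => tW0 | 1 => tW1 | 2 => tW2 | 3 => tW3 | 4 => tW4 | _ => tW5

/-- The targets of the moves. -/
def tgP : ℕ → P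
  | 0 => pm yP yP
  | 1 => zP
  | n + 2 => pm yP (powP zP (n + 1))

theorem words_lt : (xW ++ yW ++ zW ++ cW).all (fun k => decide (k < 12)) = true ∧
    (∀ i : Fin 6, (aW i.val ++ tW i.val).all (fun k => decide (k < 12)) = true) := by decide +kernel

theorem words_a : ∀ i : Fin 6, peq (aP i.val) (wP (aW i.val)) = true := by decide +kernel

theorem words_xyz : peq xP (wP xW) = true ∧ peq yP (wP yW) = true ∧ peq zP (wP zW) = true := by decide +kernel

theorem a_rels : peq (powP (aP 0) 3) one = true ∧
    (∀ i : Fin 6, 1 ≤ i.val → peq (powP (aP i.val) 2) one = true) ∧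
    (∀ i : Fin 5, peq (powP (pm (aP i.val) (aP (i.val + 1))) 3) one = true) ∧
    (∀ i j : Fin 6, i.val + 1 < j.val → peq (powP (pm (aP i.val) (aP j.val)) 2) one = true) ∧
    (∀ i : Fin 6, peq (pm (aP i.val) xP) (pm xP (aP i.val)) = true) ∧ differs (aP 0) one := by
  decide +kernel

theorem xyz_rels : peq (powP xP 5) one = true ∧ differs xP one ∧ peq (powP yP 5) one = true ∧
    peq (powP zP 5) one = true ∧ peq (pm yP zP) (pm zP yP) = true ∧
    (∀ i : Fin 5, differs zP (powP yP i.val)) ∧ differs yP one := by
  decide +kernel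

theorem move_x : (let c := wP cW; peq (pm c xP) (pm yP c)) = true := by decide +kernel

theorem move_y : ∀ i : Fin 6, (let c := wP (tW i.val); peq (pm c yP) (pm (tgP i.val) c)) = true := by decide +kernel

end Cfsg.Lib.TwFive
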