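import Cfsg.Agent.TwFive.Embed
import Cfsg.Agent.TwFive.Cert
import Mathlib.FieldTheory.Finite.GaloisField

/-!
All elements of order five of the twisted group over the field with four elements are conjugate.
-/

set_option autoImplicit false

open Cfsg.Lie

namespace Cfsg.Lib.TwFive

open Cfsg.Lib.Chev Cfsg.Lib.TwFi Cfsg.Lib.PrimeGraph

/-- A word as an invertible matrix over the field with four elements. -/
def gU (w : List ℕ) : GL chevE6.Idx KQuad := (w.map fun k => genU (Fin.ofNat 12 k)).prod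

theorem val_gU : ∀ w : List ℕ, w.all (fun k => decide (k < 12)) = true →
    ((gU w : GL chevE6.Idx KQuad) : Matrix chevE6.Idx chevE6.Idx KQuad) = toI (wP w)
  | [], _ => toI_one.symm
  | k :: w, h => by
    simp only [List.all_cons, Bool.and_eq_true, decide_eq_true_eq] at h
    have hk : (Fin.ofNat 12 k).val = k := Nat.mod_eq_of_lt h.1
    show ((genU (Fin.ofNat 12 k) * gU w : GL chevE6.Idx KQuad) : Matrix chevE6.Idx chevE6.Idx KQuad) = _
    rw [Units.val_mul, val_gU w h.2]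
    show toI (genP (Fin.ofNat 12 k).val) * _ = toI (pm (genP k) (wP w))
    rw [hk, toI_pm]

theorem val_xyz :
    ((gU xW : GL chevE6.Idx KQuad) : Matrix chevE6.Idx chevE6.Idx KQuad) = toI xP ∧
    ((gU yW : GL chevE6.Idx KQuad) : Matrix chevE6.Idx chevE6.Idx KQuad) = toI yP ∧
    ((gU zW : GL chevE6.Idx KQuad) : Matrix chevE6.Idx chevE6.Idx KQuad) = toI zP ∧
    ((gU cW : GL chevE6.Idx KQuad) : Matrix chevE6.Idx chevE6.Idx KQuad) = toI (wP cW) ∧
    ∀ i : Fin 6, ((gU (aW i.val) : GL chevE6.Idx KQuad) : Matrix chevE6.Idx chevE6.Idx KQuad) = toI (aP i.val) ∧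
      ((gU (tW i.val) : GL chevE6.Idx KQuad) : Matrix chevE6.Idx chevE6.Idx KQuad) = toI (wP (tW i.val)) := by
  obtain ⟨h, h'⟩ := words_lt
  simp only [List.all_append, Bool.and_eq_true] at h h'
  exact ⟨(val_gU _ h.1.1.1).trans (toI_peq words_xyz.1).symm, (val_gU _ h.1.1.2).trans (toI_peq words_xyz.2.1).symm,
    (val_gU _ h.1.2).trans (toI_peq words_xyz.2.2).symm, val_gU _ h.2,
    fun i => ⟨(val_gU _ (h' i).1).trans (toI_peq (words_a i)).symm, val_gU _ (h' i).2⟩⟩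

theorem gU_rels :
    gU xW ^ 5 = 1 ∧ gU xW ≠ 1 ∧ gU yW ^ 5 = 1 ∧ gU yW ≠ 1 ∧ gU zW ^ 5 = 1 ∧
    gU yW * gU zW = gU zW * gU yW ∧ (∀ i : Fin 5, gU zW ≠ gU yW ^ i.val) ∧
    gU cW * gU xW = gU yW * gU cW ∧ gU tW0 * gU yW = gU yW ^ 2 * gU tW0 ∧ gU tW1 * gU yW = gU zW * gU tW1 ∧
    ∀ k : Fin 4, gU (tW (k.val + 2)) * gU yW = gU yW * gU zW ^ (k.val + 1) * gU (tW (k.val + 2)) := by
  obtain ⟨vx, vy, vz, vc, va⟩ := val_xyz
  obtain ⟨r1, r2, r3, r4, r5, r6, r7⟩ := xyz_rels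
  have one' : ((1 : GL chevE6.Idx KQuad) : Matrix chevE6.Idx chevE6.Idx KQuad) = toI one := toI_one.symm
  refine ⟨Units.ext ?_, fun e => toI_ne r2 ?_, Units.ext ?_, fun e => toI_ne r7 ?_, Units.ext ?_, Units.ext ?_,
    fun i e => toI_ne (r6 i) ?_, Units.ext ?_, Units.ext ?_, Units.ext ?_, fun k => Units.ext ?_⟩
  · rw [Units.val_pow_eq_pow_val, vx, ← toI_powP, one']; exact toI_peq r1
  · rw [← vx, ← one', e]
  · rw [Units.val_pow_eq_pow_val, vy, ← toI_powP, one']; exact toI_peq r3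
  · rw [← vy, ← one', e]
  · rw [Units.val_pow_eq_pow_val, vz, ← toI_powP, one']; exact toI_peq r4
  · rw [Units.val_mul, Units.val_mul, vy, vz, ← toI_pm, ← toI_pm]; exact toI_peq r5
  · rw [← vz, e, Units.val_pow_eq_pow_val, vy, toI_powP]
  · rw [Units.val_mul, Units.val_mul, vc, vx, vy, ← toI_pm, ← toI_pm]; exact toI_peq move_x
  · have h := toI_peq (move_y 0)
    rw [toI_pm, toI_pm, show tgP (0 : Fin 6).val = pm yP yP from rfl, toI_pm] at h
    rw [Units.val_mul, Units.val_mul, Units.val_pow_eq_pow_val, show gU tW0 = gU (tW (0 : Fin 6).val) from rfl,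
      (va 0).2, vy, sq]
    exact h
  · have h := toI_peq (move_y 1)
    rw [toI_pm, toI_pm, show tgP (1 : Fin 6).val = zP from rfl] at h
    rw [Units.val_mul, Units.val_mul, show gU tW1 = gU (tW (1 : Fin 6).val) from rfl, (va 1).2, vy, vz]
    exact h
  · have h := toI_peq (move_y ⟨k.val + 2, by omega⟩)
    rw [toI_pm, toI_pm, show tgP (⟨k.val + 2, by omega⟩ : Fin 6).val = pm yP (powP zP (k.val + 1)) from rfl, toI_pm,
      toI_powP] at h
    rw [Units.val_mul, Units.val_mul, Units.val_mul, Units.val_pow_eq_pow_val, (va ⟨k.val + 2, by omega⟩).2, vy, vz]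
    exact h

variable {K : Type*} [Field K] (σ : KQuad →+* K)

/-- A word as an element of the twisted group. -/
def el (w : List ℕ) : ↥(twistedE6 K 2) :=
  ⟨mapI σ (gU w), by
    rw [gU, map_list_prod, List.map_map]
    exact list_prod_mem fun g hg => by obtain ⟨k, -, rfl⟩ := List.mem_map.1 hg; exact genU_mem σ _⟩

theorem el_val (w : List ℕ) : (el σ w : GL chevE6.Idx K) = mapI σ (gU w) := rfl

theorem mapI_inj : Function.Injective (mapI σ) := fun a b e =>
  Units.ext (Matrix.ext fun i j => σ.injective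
    (congrArg (fun z : GL chevE6.Idx K => (z : Matrix chevE6.Idx chevE6.Idx K) i j) e))

theorem zmod5_inv : ∀ b : ZMod 5, b ≠ 0 → ∃ m : Fin 5, m ≠ 0 ∧ b.val * m.val % 5 = 1 := by decide

/-- All elements of order five are conjugate to the first one. -/
theorem isConj_el [Fintype K] (hK : Fintype.card K = 4) (a : ↥(twistedE6 K 2)) (ha : orderOf a = 5) :
    IsConj (el σ xW) a := by
  classical
  haveI : Fact (Nat.Prime 5) := ⟨Nat.prime_five⟩
  obtain ⟨-, -, y5, yne, z5, hyz, hz, hcx, ht0, ht1, htk⟩ := gU_rels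
  set x := el σ xW
  set y := el σ yW
  set z := el σ zW
  have up : ∀ {g : ↥(twistedE6 K 2)} {u : GL chevE6.Idx KQuad}, (g : GL chevE6.Idx K) = mapI σ u → ∀ n : ℕ,
      ((g ^ n : ↥(twistedE6 K 2)) : GL chevE6.Idx K) = mapI σ (u ^ n) := fun h n => by
    rw [Subgroup.coe_pow, h, map_pow]
  have hy5 : y ^ 5 = 1 := Subtype.ext (by rw [up (el_val σ yW), y5, map_one]; rfl)
  have hz5 : z ^ 5 = 1 := Subtype.ext (by rw [up (el_val σ zW), z5, map_one]; rfl)
  have hc : Commute y z := Subtype.ext (by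
    show mapI σ (gU yW) * mapI σ (gU zW) = mapI σ (gU zW) * mapI σ (gU yW)
    rw [← map_mul, ← map_mul, hyz])
  have hne : y ≠ 1 := fun e => yne (mapI_inj σ ((congrArg Subtype.val e).trans (map_one (mapI σ)).symm))
  have hzy : ∀ i : Fin 5, z ≠ y ^ i.val := fun i e =>
    hz i (mapI_inj σ ((congrArg Subtype.val e).trans (up (el_val σ yW) _)))
  have cj : ∀ {u v : GL chevE6.Idx KQuad} (w : List ℕ) (p q : ↥(twistedE6 K 2)),
      (p : GL chevE6.Idx K) = mapI σ u → (q : GL chevE6.Idx K) = mapI σ v → gU w * u = v * gU w → IsConj p q :=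
    fun w p q hp hq h => isConj_iff.2 ⟨el σ w, mul_inv_eq_iff_eq_mul.2 (Subtype.ext (by
      rw [Subgroup.coe_mul, Subgroup.coe_mul, hp, hq, el_val, ← map_mul, ← map_mul, h]))⟩
  have hxy : IsConj x y := cj cW x y rfl rfl hcx
  refine hxy.trans ?_
  have hy2 : IsConj y (y ^ 2) := cj tW0 y _ rfl (up (el_val σ yW) 2) ht0
  have hyzc : IsConj y z := cj tW1 y z rfl rfl ht1
  have hyk : ∀ k : Fin 4, IsConj y (y * z ^ (k.val + 1)) := fun k =>
    cj (tW (k.val + 2)) y _ rfl (by rw [Subgroup.coe_mul, up (el_val σ zW), el_val, ← map_mul]) (htk k)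
  have hpow : ∀ {p q : ↥(twistedE6 K 2)}, IsConj p q → ∀ n : ℕ, IsConj (p ^ n) (q ^ n) := fun {p q} h n => by
    obtain ⟨g, hg⟩ := isConj_iff.1 h
    exact isConj_iff.2 ⟨g, by rw [← hg, conj_pow]⟩
  have hy4 : IsConj y (y ^ 4) := by
    have := hy2.trans (hpow hy2 2)
    rwa [← pow_mul] at this
  have hy3 : IsConj y (y ^ 3) := by
    have := hy4.trans (hpow hy2 4)
    rwa [← pow_mul, show y ^ (2 * 4) = y ^ 5 * y ^ 3 by rw [← pow_add], hy5, one_mul] at this
  have hyp : ∀ i : ℕ, i % 5 ≠ 0 → IsConj y (y ^ i) := fun i hi => by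
    rw [← pow_mod_orderOf, orderOf_eq_prime hy5 hne]
    have : i % 5 = 1 ∨ i % 5 = 2 ∨ i % 5 = 3 ∨ i % 5 = 4 := by omega
    rcases this with h | h | h | h <;> rw [h]
    · rw [pow_one]
    exacts [hy2, hy3, hy4]
  have hall : ∀ i j : Fin 5, (i ≠ 0 ∨ j ≠ 0) → IsConj y (y ^ i.val * z ^ j.val) := by
    intro i j hij
    rcases eq_or_ne j 0 with rfl | hj
    · have hi : i ≠ 0 := hij.resolve_right (by simp)
      rw [Fin.val_zero, pow_zero, mul_one]
      exact hyp _ (by rw [Nat.mod_eq_of_lt i.isLt]; exact fun e => hi (Fin.ext e))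
    have hj' : j.val % 5 ≠ 0 := by rw [Nat.mod_eq_of_lt j.isLt]; exact fun e => hj (Fin.ext e)
    rcases eq_or_ne i 0 with rfl | hi
    · rw [Fin.val_zero, pow_zero, one_mul]
      exact (hyp _ hj').trans (hpow hyzc _)
    have hi' : i.val % 5 ≠ 0 := by rw [Nat.mod_eq_of_lt i.isLt]; exact fun e => hi (Fin.ext e)
    have hex : ∀ i j : Fin 5, i ≠ 0 → j ≠ 0 → ∃ k : Fin 4, (k.val + 1) * i.val % 5 = j.val := by decide
    obtain ⟨k, hk⟩ := hex i j hi hj
    have h := (hyp _ hi').trans (hpow (hyk k) i.val)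
    rw [(hc.pow_right _).mul_pow, ← pow_mul] at h
    conv at h => rw [← pow_mod_orderOf z ((k.val + 1) * i.val)]
    rcases eq_or_ne z 1 with hz1 | hz1
    · exact absurd (hz1.trans (pow_zero y).symm) (hzy 0)
    rw [orderOf_eq_prime hz5 hz1, hk] at h
    exact h
  -- the elementary subgroup of order 25
  have oy : orderOf y = 5 := orderOf_eq_prime hy5 hne
  have oz : orderOf z = 5 := orderOf_eq_prime hz5 fun e => hzy 0 (e.trans (pow_zero y).symm)
  have hm5 : ∀ n : ℕ, y ^ (n % 5) = y ^ n := fun n => by rw [← oy]; exact pow_mod_orderOf y n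
  let φ : Multiplicative (ZMod 5 × ZMod 5) →* ↥(twistedE6 K 2) :=
    MonoidHom.mk' (fun p => y ^ p.toAdd.1.val * z ^ p.toAdd.2.val) fun p q => by
      show y ^ (p.toAdd.1 + q.toAdd.1).val * z ^ (p.toAdd.2 + q.toAdd.2).val = _
      rw [ZMod.val_add, ZMod.val_add]
      conv_rhs => rw [mul_assoc, ← mul_assoc (z ^ _), ← (hc.pow_pow _ _).eq, mul_assoc, ← mul_assoc, ← pow_add,
        ← pow_add, ← pow_mod_orderOf y, ← pow_mod_orderOf z, oy, oz]
  have hφ : Function.Injective φ := by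
    rw [injective_iff_map_eq_one]
    intro p hp
    have hp' : y ^ p.toAdd.1.val * z ^ p.toAdd.2.val = 1 := hp
    rcases eq_or_ne p.toAdd.2 0 with h2 | h2
    · rw [h2, ZMod.val_zero, pow_zero, mul_one] at hp'
      have h1 : p.toAdd.1 = 0 := by
        by_contra h1
        have h5 : orderOf y ∣ p.toAdd.1.val := orderOf_dvd_of_pow_eq_one hp'
        rw [oy] at h5
        have := Nat.le_of_dvd (Nat.pos_of_ne_zero fun e => h1 ((ZMod.val_eq_zero _).1 e)) h5
        have := p.toAdd.1.val_lt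
        omega
      exact Multiplicative.toAdd.injective (Prod.ext h1 h2)
    · exfalso
      obtain ⟨m, hm, he⟩ := zmod5_inv _ h2
      have h := congrArg (· ^ m.val) hp'
      simp only [(hc.pow_pow _ _).mul_pow, one_pow, ← pow_mul] at h
      rw [← pow_mod_orderOf z (p.toAdd.2.val * _), oz, he, pow_one] at h
      have e := eq_inv_of_mul_eq_one_right h
      have hinv : (y ^ (p.toAdd.1.val * m.val))⁻¹ = y ^ (4 * (p.toAdd.1.val * m.val) % 5) := by
        rw [inv_eq_iff_mul_eq_one, hm5, ← pow_add,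
          show p.toAdd.1.val * m.val + 4 * (p.toAdd.1.val * m.val) = 5 * (p.toAdd.1.val * m.val) by ring,
          pow_mul, hy5, one_pow]
      exact hzy ⟨_, Nat.mod_lt _ (by norm_num)⟩ (e.trans hinv)
  have hcard : Nat.card φ.range = 5 ^ 2 := by
    rw [← Nat.card_congr (MonoidHom.ofInjective hφ).toEquiv, Nat.card_congr Multiplicative.toAdd, Nat.card_prod,
      Nat.card_zmod]
    norm_num
  obtain ⟨P, hP⟩ := (IsPGroup.of_card hcard).exists_le_sylow
  obtain ⟨n, hn⟩ := P.2.exists_card_eq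
  have hG : 3 * Nat.card ↥(twistedE6 K 2) =
      2 ^ 36 * (2 ^ 2 - 1) * (2 ^ 5 + 1) * (2 ^ 6 - 1) * (2 ^ 8 - 1) * (2 ^ 9 + 1) * (2 ^ 12 - 1) := by
    have := E6.twOrder (K := K) Nat.prime_two.isPrimePow (by rw [hK]; norm_num)
    rwa [show Nat.gcd 3 (2 + 1) = 3 from rfl] at this
  have hnle : n ≤ 2 := by
    by_contra hlt
    have h2' : 5 ^ n ∣ Nat.card ↥(twistedE6 K 2) := by
      rw [← hn]; exact Subgroup.card_subgroup_dvd_card _
    have h3 : 5 ^ 3 ∣ 3 * Nat.card ↥(twistedE6 K 2) :=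
      ((Nat.pow_dvd_pow 5 (show 3 ≤ n by omega)).trans h2').mul_left 3
    rw [hG] at h3
    norm_num at h3
  have hPeq : φ.range = (P : Subgroup _) := Subgroup.eq_of_le_of_card_ge hP (by
    rw [hn, hcard]; exact Nat.pow_le_pow_right (by norm_num) hnle)
  have hza : IsPGroup 5 (Subgroup.zpowers a) := IsPGroup.of_card (n := 1) (by rw [Nat.card_zpowers, ha, pow_one])
  obtain ⟨Q, hQ⟩ := hza.exists_le_sylow
  obtain ⟨g, hg⟩ := MulAction.exists_smul_eq (↥(twistedE6 K 2)) Q P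
  have hmem : g * a * g⁻¹ ∈ φ.range := by
    rw [hPeq, ← hg]
    exact ⟨a, hQ (Subgroup.mem_zpowers a), rfl⟩
  obtain ⟨p, hp⟩ := hmem
  have hp' : y ^ p.toAdd.1.val * z ^ p.toAdd.2.val = g * a * g⁻¹ := hp
  have hnz : (p.toAdd.1 : Fin 5) ≠ 0 ∨ (p.toAdd.2 : Fin 5) ≠ 0 := by
    by_contra h
    simp only [not_or, not_not] at h
    have h1 : p.toAdd.1 = 0 := h.1
    have h2 : p.toAdd.2 = 0 := h.2
    rw [h1, h2, ZMod.val_zero, pow_zero, pow_zero, mul_one] at hp'
    rw [conj_eq_one_iff.1 hp'.symm, orderOf_one] at ha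
    omega
  refine IsConj.trans (b := g * a * g⁻¹) ?_ (isConj_iff.2 ⟨g⁻¹, by group⟩)
  rw [← hp']
  exact hall p.toAdd.1 p.toAdd.2 hnz

end Cfsg.Lib.TwFive
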