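import Cfsg.Agent.TwFive.Bound
import Cfsg.Agent.TwFi.Gens
import Cfsg.Agent.Chev.Tw.Inst

/-!
The centraliser of the element of order five embeds into the fixed centraliser of the torus element.
-/

set_option autoImplicit false

open Cfsg.Lie

namespace Cfsg.Lib.TwFive

open Cfsg.Lib.Chev Cfsg.Lib.TwFi Cfsg.Lib.PrimeGraph

variable {L : Type*} [Field L] [CharP L 2]

theorem quintic {l : Lˣ} (hl : orderOf l = 5) :
    (l : L) ^ 4 + (l : L) ^ 3 + (l : L) ^ 2 + (l : L) + 1 = 0 := by
  have h5 : (l : L) ^ 5 = 1 := by rw [← Units.val_pow_eq_pow_val, ← hl, pow_orderOf_eq_one, Units.val_one]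
  have hne : (l : L) - 1 ≠ 0 := sub_ne_zero.2 fun e => by
    rw [show l = 1 from Units.ext e, orderOf_one] at hl; omega
  exact (mul_eq_zero.1 (show ((l : L) - 1) * _ = 0 by linear_combination h5)).resolve_left hne

/-- The sum of an element of order five and its inverse. -/
def omL (l : Lˣ) : L := (l : L) + ((l⁻¹ : Lˣ) : L)

theorem omL_sq {l : Lˣ} (hl : orderOf l = 5) : omL l * omL l + omL l + 1 = 0 := by
  have h := quintic hl
  have hi : (l : L) * ((l⁻¹ : Lˣ) : L) = 1 := Units.mul_inv l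
  have h2 : (2 : L) = 0 := CharTwo.two_eq_zero
  refine (mul_eq_zero.1 (show (l : L) ^ 2 * (omL l * omL l + omL l + 1) = 0 from ?_)).resolve_left
    (pow_ne_zero 2 l.ne_zero)
  simp only [omL]
  linear_combination h + ((l : L) * ((l⁻¹ : Lˣ) : L) + (1 : L) + 2 * (l : L) ^ 2 + (l : L)) * hi +
    (l : L) ^ 2 * h2

/-- The homomorphism of the field with four elements. -/
def iota (l : Lˣ) (a : KQuad) : L := ![0, 1, omL l, 1 + omL l] a.code

theorem code_mul : ∀ a b : Fin 4, ((KQuad.mk a * KQuad.mk b).code) =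
    ![![0, 0, 0, 0], ![0, 1, 2, 3], ![0, 2, 3, 1], ![0, 3, 1, 2]] a b := by decide +kernel

theorem code_add : ∀ a b : Fin 4, ((KQuad.mk a + KQuad.mk b).code) =
    ![![0, 1, 2, 3], ![1, 0, 3, 2], ![2, 3, 0, 1], ![3, 2, 1, 0]] a b := by decide +kernel

theorem exists_iota {l : Lˣ} (hl : orderOf l = 5) :
    ∃ ι : KQuad →+* L, ι (KQuad.ofCode 2) = omL l ∧ ι (KQuad.ofCode 3) = 1 + omL l := by
  have hw := omL_sq hl
  have h2 : (2 : L) = 0 := CharTwo.two_eq_zero
  refine ⟨{ toFun := iota l, map_one' := rfl, map_zero' := rfl, map_add' := ?_, map_mul' := ?_ }, rfl, rfl⟩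
  · rintro ⟨a⟩ ⟨b⟩
    fin_cases a <;> fin_cases b <;> simp [iota, code_mul]
    all_goals first | linear_combination (1 + omL l) * h2 - hw | linear_combination hw - (1 + omL l) * h2 |
      linear_combination h2 - hw | linear_combination hw - h2 | linear_combination -hw | linear_combination hw
  · rintro ⟨a⟩ ⟨b⟩
    fin_cases a <;> fin_cases b <;> simp [iota, code_add]
    all_goals first | ring1 | linear_combination h2 | linear_combination -h2 | linear_combination omL l * h2 |
      linear_combination -(omL l) * h2 | linear_combination (1 + omL l) * h2 | linear_combination -(1 + omL l) * h2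

/-- The image of a word in the generators over a field with four elements. -/
def wK {K : Type*} [Field K] (σ : KQuad →+* K) (w : List ℕ) : GL chevE6.Idx K :=
  mapI σ (w.map fun k => genU (Fin.ofNat 12 k)).prod

theorem gw47 : genWord 4 = [(56, 1), (36, 1)] ∧
    genWord 7 = [(15, KQuad.ofCode 2), (35, KQuad.ofCode 3)] := by decide +kernel

theorem cross_ok : ∀ r ∈ [56, 15], ∀ s ∈ [36, 35],
    TwDat.commOK chevE6 r s = true ∧ TwDat.commOK chevE6 s r = true := by decide +kernel

/-- The generated subgroup of one pair of opposite fundamental root subgroups centralises the other. -/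
theorem phi_comm {φ ψ : Matrix.SpecialLinearGroup (Fin 2) L →* GL chevE6.Idx L}
    (hφ : φ.range = Subgroup.closure (Set.range (E6.struct.ok.xG (F := L) 56) ∪ Set.range (E6.struct.ok.xG 15)))
    (hψ : ψ.range = Subgroup.closure (Set.range (E6.struct.ok.xG (F := L) 36) ∪ Set.range (E6.struct.ok.xG 35)))
    (g g' : Matrix.SpecialLinearGroup (Fin 2) L) : Commute (φ g) (ψ g') := by
  have h : ψ.range ≤ Subgroup.centralizer (φ.range : Set (GL chevE6.Idx L)) := by
    rw [hφ, hψ, Subgroup.centralizer_closure, Subgroup.closure_le]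
    intro z hz
    simp only [SetLike.mem_coe, Subgroup.mem_centralizer_iff]
    intro y hy
    rcases hy with ⟨t, rfl⟩ | ⟨t, rfl⟩ <;> rcases hz with ⟨u, rfl⟩ | ⟨u, rfl⟩ <;>
      exact (E6.struct.commute_of_commOK (by decide) (by decide) (cross_ok _ (by simp) _ (by simp)).1 t u).eq
  exact Subgroup.mem_centralizer_iff.1 (h ⟨g', rfl⟩) _ ⟨g, rfl⟩

variable [Fintype L] {K : Type*} [Field K] [Fintype K]

/-- The centraliser of the element of order five is small. -/
theorem card_cent_le (hK : Fintype.card K = 4) (σ : KQuad →+* K) {l : Lˣ} (hl : orderOf l = 5)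
    (hL : Fintype.card L = 16) :
    Nat.card {g : GL chevE6.Idx K // g ∈ twistedE6 K 2 ∧ g * wK σ [4, 7] = wK σ [4, 7] * g} ≤ 100800 := by
  classical
  obtain ⟨ι, hι2, hι3⟩ := exists_iota (L := L) hl
  have hσ : Function.Bijective σ :=
    (Fintype.bijective_iff_injective_and_card _).2 ⟨σ.injective, KQuad.card_eq.trans hK.symm⟩
  let e : KQuad ≃+* K := RingEquiv.ofBijective σ hσ
  let τ : K →+* L := ι.comp e.symm.toRingHom
  have hτ : ∀ a, τ (σ a) = ι a := fun a => congrArg ι (e.symm_apply_apply a)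
  set om := omL l with hom
  have hw : om * om + om + 1 = 0 := omL_sq hl
  have h2 : (2 : L) = 0 := CharTwo.two_eq_zero
  set a : L := (l : L)
  set b : L := ((l⁻¹ : Lˣ) : L)
  have hab : a * b = 1 := Units.mul_inv l
  have hoab : om = a + b := rfl
  have hq := quintic hl
  have ha2 : a ^ 2 = om * a + 1 := by linear_combination (-a) * hoab - hab - h2
  have hb2 : b ^ 2 = om * b + 1 := by linear_combination (-b) * hoab - hab - h2
  have h5 : a ^ 5 = 1 := by linear_combination (a - 1) * hq
  have hb4 : a ^ 4 = b := by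
    calc a ^ 4 = a ^ 4 * (a * b) := by rw [hab, mul_one]
      _ = a ^ 5 * b := by ring
      _ = b := by rw [h5, one_mul]
  have hom4 : om ^ 4 = om := by linear_combination (om ^ 2 - om) * hw
  -- the two fundamental copies of the special linear group
  obtain ⟨φ, hφu, hφl, hφr⟩ := (E6.struct.sl2Rel_simple (F := L) ⟨0, by decide⟩).exists_hom
  obtain ⟨ψ, hψu, hψl, hψr⟩ := (E6.struct.sl2Rel_simple (F := L) ⟨5, by decide⟩).exists_hom
  have e0 : chevE6.simple (⟨0, by decide⟩ : Fin chevE6.rank).val = 56 ∧ chevE6.neg 56 = 15 := by decide +kernel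
  have e5 : chevE6.simple (⟨5, by decide⟩ : Fin chevE6.rank).val = 36 ∧ chevE6.neg 36 = 35 := by decide +kernel
  simp only [e0.1, e0.2] at hφu hφl hφr
  simp only [e5.1, e5.2] at hψu hψl hψr
  have hcom := phi_comm hφr hψr
  -- the change of coordinates
  have hc0 : om * a + 1 ≠ 0 := by
    rw [← ha2]; exact pow_ne_zero 2 l.ne_zero
  set p : L := (om - 1) / (om * a + 1)
  set q : L := (om * b + 1 - 1) / (om * a + 1)
  let KM : L → L → L → Matrix.SpecialLinearGroup (Fin 2) L := fun p c q => uM p * lM c * uM q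
  set c : L := om * a + 1 with hcdef
  have hp : p * c = om - 1 := div_mul_cancel₀ _ hc0
  have hq' : q * c = om * b + 1 - 1 := div_mul_cancel₀ _ hc0
  have hdet : om * (om * b + 1) - om * c = 1 := by
    rw [hcdef]
    linear_combination (om - 1) * hw - om ^ 2 * hoab - om ^ 2 * a * h2
  have hk : Chev.mat (KM p c q) = !![om, om; c, om * b + 1] := by
    ext i j
    fin_cases i <;> fin_cases j <;>
      simp [KM, mat_mul, mat_uM, mat_lM, Matrix.mul_apply, Fin.sum_univ_two]
    · linear_combination hp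
    · refine mul_left_cancel₀ hc0 ?_
      linear_combination (1 + p * c) * hq' + (om * b + 1) * hp + hdet
    · linear_combination hq'
  have hk2 : Chev.mat (KM (p ^ 2 ^ 2) (c ^ 2 ^ 2) (q ^ 2 ^ 2)) = Chev.mat (KM p c q) * Chev.mat (uM 1 * lM 1 * uM 1) := by
    have e4 : Chev.mat (KM (p ^ 4) (c ^ 4) (q ^ 4)) = (Chev.mat (KM p c q)).map (fun t => t ^ 4) := by
      have f := (frob (L := L)).comp frob
      have hf : ∀ t : L, (frob (L := L)) (frob t) = t ^ 4 := fun t => by rw [frob_apply, frob_apply, ← pow_mul]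
      rw [show (fun t : L => t ^ 4) = ⇑((frob (L := L)).comp frob) from funext fun t => (hf t).symm]
      simp only [KM, mat_mul, Matrix.map_mul]
      congr 1
      · congr 1 <;> ext i j <;> fin_cases i <;> fin_cases j <;> simp [mat_uM, mat_lM, hf]
      · ext i j; fin_cases i <;> fin_cases j <;> simp [mat_uM, hf]
    rw [show (2 : ℕ) ^ 2 = 4 from rfl, e4, hk]
    have hc4 : c ^ 4 = om * b + 1 := by
      rw [← hb2, show c = a ^ 2 from ha2.symm, ← hb4]
      ring
    have hd4 : (om * b + 1) ^ 4 = c := by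
      rw [← hb2, show c = a ^ 2 from ha2.symm, ← hb4, show ((a ^ 4) ^ 2) ^ 4 = (a ^ 5) ^ 6 * a ^ 2 by ring, h5]
      ring
    ext i j
    fin_cases i <;> fin_cases j <;>
      simp [mat_mul, mat_uM, mat_lM, Matrix.mul_apply, Fin.sum_univ_two, hom4, hc4, hd4, CharTwo.add_self_eq_zero]
    all_goals first | exact Or.inr (one_add_one_eq_two.trans h2) | linear_combination om * h2 | linear_combination -om * h2 | linear_combination c * h2 |
      linear_combination -c * h2 | linear_combination (om * b + 1) * h2 | linear_combination -(om * b + 1) * h2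
  -- the torus element
  set B : Matrix.SpecialLinearGroup (Fin 2) L := KM p c q with hBdef
  let Fs := Matrix.SpecialLinearGroup.map (n := Fin 2) (frob (L := L))
  have hFu : ∀ t : L, Fs (uM t) = uM (t ^ 2) := fun t => mat_inj (by
    ext i j
    show frob (Chev.mat (uM t) i j) = Chev.mat (uM (t ^ 2)) i j
    fin_cases i <;> fin_cases j <;> simp [mat_uM, frob_apply])
  have hFl : ∀ t : L, Fs (lM t) = lM (t ^ 2) := fun t => mat_inj (by
    ext i j
    show frob (Chev.mat (lM t) i j) = Chev.mat (lM (t ^ 2)) i j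
    fin_cases i <;> fin_cases j <;> simp [mat_lM, frob_apply])
  have hneg : ∀ t : L, -t = t := CharTwo.neg_eq
  set DM : L → Matrix.SpecialLinearGroup (Fin 2) L :=
    fun t => uM t * lM (-t⁻¹) * uM t * (uM (-1) * lM (-(-1)⁻¹) * uM (-1)) with hDM
  have hFD : ∀ t : L, Fs (DM t) = DM (t ^ 2) := fun t => by
    simp only [hDM, map_mul, hFu, hFl, hneg, inv_pow, inv_one, one_pow]
  have hainv : a⁻¹ = b := inv_eq_of_mul_eq_one_right hab
  have hba : b * a = 1 := by rw [mul_comm]; exact hab
  have hD : Chev.mat (DM a) = !![a, 0; 0, b] := by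
    ext i j
    fin_cases i <;> fin_cases j <;>
      simp [hDM, mat_mul, mat_uM, mat_lM, Matrix.mul_apply, Fin.sum_univ_two, hainv, hneg, hab, hba,
        CharTwo.add_self_eq_zero]
  have hXB : uM 1 * lM om * B = B * DM a := mat_inj (by
    rw [mat_mul, mat_mul, mat_mul B, hD, hk]
    ext i j
    fin_cases i <;> fin_cases j <;> simp [mat_uM, mat_lM, Matrix.mul_apply, Fin.sum_univ_two, hcdef]
    · linear_combination hw
    · linear_combination hw
    · linear_combination (1 - a) * hw - om * ha2 + (om * a - om) * h2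
    · linear_combination (1 - b) * hw - om * hb2 + (om * b - om) * h2)
  have hBN : KM (p ^ 2 ^ 2) (c ^ 2 ^ 2) (q ^ 2 ^ 2) = B * (uM 1 * lM 1 * uM 1) :=
    mat_inj (by rw [mat_mul B]; exact hk2)
  set h : GL chevE6.Idx L := φ B * ψ (Fs B) with hh
  have hsh : sg h = h * nn := by
    have e1 : sg (φ B) = ψ (Fs B) := by
      simp only [hBdef, KM, map_mul, hFu, hFl, hφu, hφl, hψu, hψl]
      rw [sg_xG (by norm_num), sg_xG (by norm_num), sg_xG (by norm_num), rh_val.1, rh_val.2.2.1]
    have e2 : sg (ψ (Fs B)) = φ (KM (p ^ 2 ^ 2) (c ^ 2 ^ 2) (q ^ 2 ^ 2)) := by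
      simp only [hBdef, KM, map_mul, hFu, hFl, hφu, hφl, hψu, hψl]
      rw [sg_xG (by norm_num), sg_xG (by norm_num), sg_xG (by norm_num), rh_val.2.1, rh_val.2.2.2]
      simp only [← pow_mul]
      norm_num
    have e3 : φ (uM 1 * lM 1 * uM 1) = nn := by
      simp only [map_mul, hφu, hφl, nn, Ok.nG, inv_one, hneg, show chevE6.simple 0 = 56 from e0.1, e0.2]
    rw [hh, map_mul sg, e1, e2, hBN, map_mul φ B, e3, ← mul_assoc, (hcom B (Fs B)).eq]
  -- the images of the elements
  let T : GL chevE6.Idx K →* GL chevE6.Idx L := Matrix.GeneralLinearGroup.map τ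
  have hTw : ∀ w : List (ℕ × K), T (E6.struct.ok.wG w) = E6.struct.ok.wG (w.map fun z => (z.1, τ z.2)) := by
    intro w
    refine Units.ext ?_
    rw [E6.struct.val_wG]
    show ((E6.struct.ok.wG w : GL chevE6.Idx K) : Matrix chevE6.Idx chevE6.Idx K).map τ = _
    rw [E6.struct.val_wG, ChevalleyDatum.wordMat, ChevalleyDatum.wordMat, List.map_map]
    show τ.mapMatrix _ = _
    rw [map_list_prod, List.map_map]
    exact congrArg List.prod (List.map_congr_left fun z _ => Ok.map_x chevE6 τ z.1 z.2)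
  have hgen : ∀ k : Fin 12, mapI σ (genU k) = E6.struct.ok.wG ((genWord k.val).map fun z => (z.1, σ z.2)) := by
    intro k
    refine Units.ext ?_
    rw [E6.struct.val_wG]
    show (toI (genP k.val)).map σ = _
    rw [toI_genP, ChevalleyDatum.wordMat, ChevalleyDatum.wordMat, List.map_map]
    show σ.mapMatrix _ = _
    rw [map_list_prod, List.map_map]
    exact congrArg List.prod (List.map_congr_left fun z _ => Ok.map_x chevE6 σ z.1 z.2)
  have homsq : 1 + om = om ^ 2 := by linear_combination hw - om ^ 2 * h2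
  have hx : T (wK σ [4, 7]) = φ (uM 1 * lM om) * ψ (Fs (uM 1 * lM om)) := by
    simp only [wK, List.map_cons, List.map_nil, List.prod_cons, List.prod_nil, mul_one, map_mul, hgen, hTw]
    rw [show genWord (Fin.ofNat 12 4).val = _ from gw47.1, show genWord (Fin.ofNat 12 7).val = _ from gw47.2]
    simp only [Ok.wG, List.map_cons, List.map_nil, List.prod_cons, List.prod_nil, mul_one, map_one, hτ, hι2, hι3,
      homsq, hφu, hφl, hψu, hψl, hFu, hFl, one_pow]
    have e := hcom (lM om) (uM 1)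
    rw [hφl, hψu] at e
    rw [mul_assoc, ← mul_assoc (E6.struct.ok.xG 36 (1 : L)), ← e.eq]
    simp only [mul_assoc]
  have ht : T (wK σ [4, 7]) * h = h * Ok.tG chevE6 L (c0 l) := by
    have e1 : φ (DM a) = Ok.tG chevE6 L (Pi.mulSingle (M := fun _ => Lˣ) (⟨0, by decide⟩ : Fin chevE6.rank) l) := by
      rw [← E6.struct.ok.hG_simple_eq_tG]
      simp only [hDM, Ok.hG, Ok.nG, map_mul, hφu, hφl, e0.1, e0.2]
      rfl
    have e2 : ψ (Fs (DM a)) =
        Ok.tG chevE6 L (Pi.mulSingle (M := fun _ => Lˣ) (⟨5, by decide⟩ : Fin chevE6.rank) (l ^ 2)) := by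
      rw [← E6.struct.ok.hG_simple_eq_tG, hFD]
      simp only [hDM, Ok.hG, Ok.nG, map_mul, hψu, hψl, e5.1, e5.2, Units.val_pow_eq_pow_val]
      rfl
    rw [hx, hh, c0, map_mul (Ok.tG chevE6 L), ← e1, ← e2]
    calc φ (uM 1 * lM om) * ψ (Fs (uM 1 * lM om)) * (φ B * ψ (Fs B))
        = φ (uM 1 * lM om) * (ψ (Fs (uM 1 * lM om)) * φ B) * ψ (Fs B) := by group
      _ = φ (uM 1 * lM om * B) * ψ (Fs (uM 1 * lM om * B)) := by
        rw [← (hcom B (Fs (uM 1 * lM om))).eq, map_mul φ (uM 1 * lM om) B, map_mul Fs (uM 1 * lM om) B, map_mul ψ]; group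
      _ = φ B * (φ (DM a) * ψ (Fs B)) * ψ (Fs (DM a)) := by rw [hXB, map_mul φ, map_mul Fs, map_mul ψ]; group
      _ = φ B * ψ (Fs B) * (φ (DM a) * ψ (Fs (DM a))) := by rw [(hcom (DM a) (Fs B)).eq]; group
  have hmem : ∀ g ∈ twistedE6 K 2, T g ∈ chevE6.group L ∧ sg (T g) = T g := by
    intro g hg
    rw [twistedE6, E6.struct.genSubgroup_eq] at hg
    suffices hle : Subgroup.closure (E6.struct.ok.wG '' e6Words K 2) ≤
        ((chevE6.group L) ⊓ (MonoidHom.eqLocus sg (MonoidHom.id _))).comap T from hle hg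
    refine (Subgroup.closure_le _).2 ?_
    rintro _ ⟨w, hw', rfl⟩
    rw [SetLike.mem_coe, Subgroup.mem_comap, hTw, Subgroup.mem_inf]
    refine ⟨list_prod_mem fun y hy => ?_, ?_⟩
    · obtain ⟨z, -, rfl⟩ := List.mem_map.1 hy
      exact E6.struct.ok.xG_mem_group _ _
    show sg _ = _
    rcases hw' with ⟨t, ht2, r, hr, rfl⟩ | ⟨t, rs, hrs, rfl⟩
    · have hr' : r < 72 ∧ rh r = r := by
        simp only [e6p2, e6m2, e6p4, e6m4, List.mem_cons, List.not_mem_nil, or_false] at hr
        rcases hr with rfl | rfl | rfl | rfl <;> decide +kernel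
      simp only [Ok.wG, List.map_cons, List.map_nil, List.prod_cons, List.prod_nil, mul_one]
      rw [sg_xG hr'.1, hr'.2, ← map_pow, ht2]
      rfl
    · have hrs' : rs.1 < 72 ∧ rs.2 < 72 ∧ rh rs.1 = rs.2 ∧ rh rs.2 = rs.1 ∧
          TwDat.commOK chevE6 rs.2 rs.1 = true := by
        simp only [e6p1, e6p6, e6m1, e6m6, e6p3, e6p5, e6m3, e6m5, List.mem_cons, List.not_mem_nil, or_false] at hrs
        rcases hrs with rfl | rfl | rfl | rfl <;> decide +kernel
      obtain ⟨h1, h2', h3, h4, h5'⟩ := hrs'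
      have ht4 : τ t ^ 2 ^ 2 = τ t := by
        rw [← map_pow, show (2 : ℕ) ^ 2 = Fintype.card K by rw [hK]; rfl, FiniteField.pow_card]
      simp only [Ok.wG, List.map_cons, List.map_nil, List.prod_cons, List.prod_nil, mul_one, map_mul]
      rw [sg_xG h1, sg_xG h2', h3, h4, map_pow, ← pow_mul, show 2 * 2 = 2 ^ 2 from rfl, ht4]
      exact (E6.struct.commute_of_commOK h2' h1 h5' _ _).eq
  let f : {g : GL chevE6.Idx K // g ∈ twistedE6 K 2 ∧ g * wK σ [4, 7] = wK σ [4, 7] * g} → ↥(Cfix (L := L) l) :=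
    fun g => ⟨h⁻¹ * T g.1 * h, by
      obtain ⟨h1, h3⟩ := hmem _ g.2.1
      have hhG : h ∈ chevE6.group L := by
        have h1' : φ.range ≤ chevE6.group L := by
          rw [hφr, Subgroup.closure_le]
          rintro y (⟨t, rfl⟩ | ⟨t, rfl⟩) <;> exact E6.struct.ok.xG_mem_group _ _
        have h2' : ψ.range ≤ chevE6.group L := by
          rw [hψr, Subgroup.closure_le]
          rintro y (⟨t, rfl⟩ | ⟨t, rfl⟩) <;> exact E6.struct.ok.xG_mem_group _ _
        exact mul_mem (h1' ⟨_, rfl⟩) (h2' ⟨_, rfl⟩)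
      refine ⟨mul_mem (mul_mem (inv_mem hhG) h1) hhG, ?_, ?_⟩
      · have e : Ok.tG chevE6 L (c0 l) = h⁻¹ * (T (wK σ [4, 7]) * h) := by rw [ht, inv_mul_cancel_left]
        rw [e]
        calc h⁻¹ * T g.1 * h * (h⁻¹ * (T (wK σ [4, 7]) * h)) = h⁻¹ * T (g.1 * wK σ [4, 7]) * h := by
              rw [map_mul]; group
          _ = _ := by rw [g.2.2, map_mul]; group
      · rw [Fp_apply, map_mul, map_mul, map_inv, hsh, h3]
        group⟩
  have hf : Function.Injective f := fun g g' e => by
    have e' := mul_left_cancel (mul_right_cancel (congrArg Subtype.val e))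
    refine Subtype.ext (Units.ext (Matrix.ext fun i j => τ.injective ?_))
    exact congrArg (fun z : GL chevE6.Idx L => (z : Matrix chevE6.Idx chevE6.Idx L) i j) e'
  exact (Nat.card_le_card_of_injective f hf).trans (card_Cfix_le hl hL)

end Cfsg.Lib.TwFive
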