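import Cfsg.Agent.TwFive.Twist
import Cfsg.Agent.TwFive.OrbData
import Cfsg.Agent.Chev.LevE6
import Cfsg.Agent.Chev.Orders

/-!
The stabiliser in the Weyl group of the character of the torus element, and the fixed points in the torus.
-/

set_option autoImplicit false

open Cfsg.Lie

namespace Cfsg.Lib.TwFive

open Cfsg.Lib.Chev

variable {L : Type*} [Field L]

/-- The coefficient of a fundamental root in a root. -/
def nc (r : ℕ) (k : Fin 6) : ℤ := (chevE6.coroot.getD r #[]).getD k.val 0

theorem cart_lin : ∀ (r : Fin 72) (i : Fin 6),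
    chevE6.cartan i.val r.val = ∑ k : Fin 6, nc r.val k * chevE6.cartan i.val (chevE6.simple k.val) := by
  decide +kernel

theorem zpow_sum_fin {G : Type*} [CommGroup G] {ι : Type*} (a : G) (s : Finset ι) (f : ι → ℤ) :
    a ^ (∑ i ∈ s, f i) = ∏ i ∈ s, a ^ f i := by
  classical
  induction s using Finset.induction_on with
  | empty => simp
  | insert b s hb ih => rw [Finset.sum_insert hb, Finset.prod_insert hb, zpow_add, ih]

theorem chi_lin (c : Fin chevE6.rank → Lˣ) (r : Fin 72) :
    chi chevE6 c r.val = ∏ k : Fin 6, chi chevE6 c (chevE6.simple k.val) ^ nc r.val k := by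
  simp only [chi, ← Finset.prod_zpow, ← zpow_mul]
  rw [Finset.prod_comm]
  refine Finset.prod_congr rfl fun i _ => ?_
  rw [← zpow_sum_fin, cart_lin r i]
  exact congrArg (c i ^ ·) (Finset.sum_congr rfl fun k _ => mul_comm _ _)

/-- The powers of an element of order dividing five. -/
def Lam (l : Lˣ) (a : ZMod 5) : Lˣ := l ^ a.val

variable {l : Lˣ} (hl : orderOf l = 5)
include hl

theorem Lam_cast (n : ℤ) : Lam l (n : ZMod 5) = l ^ n := by
  rw [Lam, ← zpow_natCast, ZMod.val_intCast, ← zpow_mod_orderOf l n, hl]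

theorem Lam_zpow (a : ZMod 5) (n : ℤ) : Lam l a ^ n = Lam l ((n : ZMod 5) * a) := by
  conv_rhs => rw [← ZMod.intCast_zmod_cast a, ← Int.cast_mul, Lam_cast hl, mul_comm, zpow_mul]
  rw [← Lam_cast hl, ZMod.intCast_zmod_cast]

theorem Lam_add (a b : ZMod 5) : Lam l (a + b) = Lam l a * Lam l b := by
  conv_lhs => rw [← ZMod.intCast_zmod_cast a, ← ZMod.intCast_zmod_cast b, ← Int.cast_add, Lam_cast hl, zpow_add]
  rw [← Lam_cast hl, ← Lam_cast hl, ZMod.intCast_zmod_cast, ZMod.intCast_zmod_cast]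

theorem Lam_sum {ι : Type*} (s : Finset ι) (f : ι → ZMod 5) : Lam l (∑ i ∈ s, f i) = ∏ i ∈ s, Lam l (f i) := by
  classical
  induction s using Finset.induction_on with
  | empty => simp [Lam]
  | insert a s ha ih => rw [Finset.sum_insert ha, Finset.prod_insert ha, Lam_add hl, ih]

theorem Lam_inj {a b : ZMod 5} (h : Lam l a = Lam l b) : a = b :=
  ZMod.val_injective 5 (pow_injOn_Iio_orderOf (by simpa [hl] using a.val_lt) (by simpa [hl] using b.val_lt) h)

omit hl

/-- The parameters of the torus element. -/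
def c0 (l : Lˣ) : Fin chevE6.rank → Lˣ :=
  Pi.mulSingle (M := fun _ => Lˣ) (⟨0, by decide⟩ : Fin chevE6.rank) l *
    Pi.mulSingle (M := fun _ => Lˣ) (⟨5, by decide⟩ : Fin chevE6.rank) (l ^ 2)

include hl

theorem chi_c0 (r : ℕ) : chi chevE6 (c0 l) r = Lam l (ev r : ZMod 5) := by
  have h : ∀ i : Fin chevE6.rank, ∀ m : Lˣ, (∏ x : Fin chevE6.rank,
      Pi.mulSingle (M := fun _ => Lˣ) i m x ^ chevE6.cartan x.val r) = m ^ chevE6.cartan i.val r := fun i m => by
    rw [Fintype.prod_eq_single i (fun j hj => by simp [Pi.mulSingle_eq_of_ne hj]), Pi.mulSingle_eq_same]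
  simp only [chi, c0, Pi.mul_apply, mul_zpow, Finset.prod_mul_distrib, h]
  have e : ((ev r : ℕ) : ZMod 5) = ((chevE6.cartan 0 r + 2 * chevE6.cartan 5 r : ℤ) : ZMod 5) := by
    rw [ev, ← Int.cast_natCast, Int.toNat_of_nonneg (Int.emod_nonneg _ (by norm_num))]
    exact ZMod.intCast_mod _ 5
  rw [e, Lam_cast hl, zpow_add, zpow_mul, zpow_ofNat]

theorem chi_c0_eq_one (r : Fin 72) : chi chevE6 (c0 l) r.val = 1 ↔ ev r.val = 0 := by
  have hlt : ev r.val < 5 := by
    have h1 := Int.emod_lt_of_pos (chevE6.cartan 0 r + 2 * chevE6.cartan 5 r) (show (0 : ℤ) < 5 by norm_num)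
    have h2 := Int.emod_nonneg (chevE6.cartan 0 r + 2 * chevE6.cartan 5 r) (show (5 : ℤ) ≠ 0 by norm_num)
    unfold ev; omega
  rw [chi_c0 hl, show (1 : Lˣ) = Lam l 0 by simp [Lam]]
  constructor
  · intro h
    have := congrArg ZMod.val (Lam_inj hl h)
    rwa [ZMod.val_natCast_of_lt hlt, ZMod.val_zero] at this
  · intro h; rw [h, Nat.cast_zero]

omit hl

/-- The code of a vector of exponents. -/
def code (v : Fin 6 → ZMod 5) : ℕ :=
  (v 0).val + 5 * ((v 1).val + 5 * ((v 2).val + 5 * ((v 3).val + 5 * ((v 4).val + 5 * (v 5).val))))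

/-- The vector of a code. -/
def decode (n : ℕ) (k : Fin 6) : ZMod 5 := ((n / 5 ^ k.val) % 5 : ℕ)

/-- Minus the Cartan matrix modulo five. -/
def mA : Fin 6 → Fin 6 → ZMod 5 :=
  ![![3, 0, 1, 0, 0, 0], ![0, 3, 0, 1, 0, 0], ![1, 0, 3, 1, 0, 0], ![0, 1, 1, 3, 1, 0], ![0, 0, 0, 1, 3, 1],
    ![0, 0, 0, 0, 1, 3]]

/-- The action of a fundamental reflection on exponents. -/
def refl (i : Fin 6) (v : Fin 6 → ZMod 5) (j : Fin 6) : ZMod 5 := v j + mA i j * v i

theorem refl_coef : ∀ i j k : Fin 6,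
    ((nc (E6.cert.w i.val (chevE6.simple j.val)) k : ℤ) : ZMod 5) =
      (if k = j then 1 else 0) + mA i j * (if k = i then 1 else 0) := by
  decide +kernel

theorem w_lt6 : ∀ i j : Fin 6, E6.cert.w i.val (chevE6.simple j.val) < 72 ∧ chevE6.simple j.val < 72 := by
  decide +kernel

/-- The code of an orbit element. -/
def oc (k : ℕ) : ℕ := Nat.land (Nat.shiftRight orbC (Nat.mul 14 k)) 16383

/-- The parent of an orbit element. -/
def op (k : ℕ) : ℕ := Nat.land (Nat.shiftRight orbP (Nat.mul 12 k)) 4095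

/-- The reflection leading to an orbit element. -/
def og (k : ℕ) : ℕ := Nat.land (Nat.shiftRight orbG (Nat.mul 3 k)) 7

/-- The position of a code. -/
def oi (c : ℕ) : ℕ := Nat.land (Nat.shiftRight orbI (Nat.mul 12 c)) 4095

theorem orb_ok : (List.range 2160).all (fun k =>
    decide (oi (oc k) = k) && decide (code (decode (oc k)) = oc k) &&
      (decide (k = 0) || (decide (op k < k) &&
        decide (code (refl (Fin.ofNat 6 (og k)) (decode (oc (op k)))) = oc k)))) = true := by
  decide +kernel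

theorem orb_zero : ∀ j : Fin 6, decode (oc 0) j = (ev (chevE6.simple j.val) : ZMod 5) := by decide +kernel

/-- The stabiliser of the character. -/
def Wst (l : Lˣ) : Set (Equiv.Perm (Fin chevE6.nroots)) :=
  {w | w ∈ E6.struct.WG ∧ ∀ r, chi chevE6 (c0 l) (w r).val = chi chevE6 (c0 l) r.val}

theorem decode_inj {a b : Fin 6 → ZMod 5} (h : code a = code b) : a = b := by
  funext k
  have := fun i : Fin 6 => (a i).val_lt
  have := fun i : Fin 6 => (b i).val_lt
  have ha : ∀ i : Fin 6, (a i).val = (b i).val := by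
    have h0 := (a 0).val_lt; have h1 := (a 1).val_lt; have h2 := (a 2).val_lt; have h3 := (a 3).val_lt
    have h4 := (a 4).val_lt; have h5 := (a 5).val_lt
    have g0 := (b 0).val_lt; have g1 := (b 1).val_lt; have g2 := (b 2).val_lt; have g3 := (b 3).val_lt
    have g4 := (b 4).val_lt; have g5 := (b 5).val_lt
    simp only [code] at h
    intro i
    fin_cases i <;> dsimp <;> omega
  exact ZMod.val_injective 5 (ha k)

theorem chi_w_lin {F : Type*} [Field F] (c : Fin chevE6.rank → Fˣ) {w : Equiv.Perm (Fin chevE6.nroots)}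
    (hw : w ∈ E6.struct.WG) : ∃ c' : Fin chevE6.rank → Fˣ, ∀ r, chi chevE6 c (w r).val = chi chevE6 c' r.val := by
  obtain ⟨M, rfl⟩ := E6.struct.exists_wpL hw
  set n := E6.struct.nL F M
  have hd := E6.struct.norm_diag (inv_mem (E6.struct.nL_mem_mono (F := F) M)) (E6.struct.tG_mem_diag c)
  rw [inv_inv, E6.struct.ok.diagonalSubgroup_eq] at hd
  obtain ⟨c', hc'⟩ := hd
  exact ⟨c', fun r => InvSemi.chi_conj E6.struct (E6.struct.act_nL M) (by rw [hc']; group) r⟩

include hl

theorem exists_orbit : ∀ k, k < 2160 → ∃ w ∈ E6.struct.WG,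
    ∀ j : Fin 6, chi chevE6 (c0 l) (w ⟨chevE6.simple j.val, (w_lt6 j j).2⟩).val = Lam l (decode (oc k) j) := by
  intro k
  induction k using Nat.strong_induction_on with
  | _ k ih =>
    intro hk
    have hok := List.all_eq_true.1 orb_ok k (List.mem_range.2 hk)
    simp only [Bool.and_eq_true, Bool.or_eq_true, decide_eq_true_eq] at hok
    rcases hok.2 with h0 | ⟨hp, hcode⟩
    · subst h0
      exact ⟨1, one_mem _, fun j => by rw [orb_zero, ← chi_c0 hl]; rfl⟩
    obtain ⟨w, hw, hv⟩ := ih _ hp (by omega)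
    set i := Fin.ofNat 6 (og k)
    set v := decode (oc (op k))
    have hnew : refl i v = decode (oc k) := decode_inj (hcode.trans hok.1.2.symm)
    refine ⟨w * E6.struct.wp (i : Fin chevE6.rank), mul_mem hw (Subgroup.subset_closure ⟨i, rfl⟩), fun j => ?_⟩
    rw [← hnew]
    obtain ⟨c', hc'⟩ := chi_w_lin (c0 l) hw
    rw [Equiv.Perm.mul_apply, hc']
    show chi chevE6 c' (E6.cert.w i.val (chevE6.simple j.val)) = _
    rw [chi_lin c' ⟨_, (w_lt6 i j).1⟩]
    have e : ∀ k : Fin 6, chi chevE6 c' (chevE6.simple k.val) = Lam l (v k) := fun k => by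
      rw [← hv k, hc']
    simp only [e, Lam_zpow hl, ← Lam_sum hl, refl_coef, add_mul, Finset.sum_add_distrib, ite_mul, one_mul, zero_mul,
      mul_assoc, ← Finset.mul_sum, Finset.sum_ite_eq', Finset.mem_univ, if_true]
    rfl

theorem card_Wst_le : Nat.card (Wst l) ≤ 24 := by
  choose w hw hv using fun k : Fin 2160 => exists_orbit hl k.val k.isLt
  let f : Fin 2160 × Wst l → ↥E6.struct.WG := fun p => ⟨p.2.1 * w p.1, mul_mem p.2.2.1 (hw p.1)⟩
  have hf : Function.Injective f := by
    rintro ⟨k, u, hu⟩ ⟨k', u', hu'⟩ h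
    have h' : u * w k = u' * w k' := congrArg Subtype.val h
    have key : decode (oc k.val) = decode (oc k'.val) := funext fun j => by
      refine Lam_inj hl ?_
      rw [← hv k j, ← hv k' j, ← hu.2 (w k _), ← hu'.2 (w k' _), ← Equiv.Perm.mul_apply, h', Equiv.Perm.mul_apply]
    have hk : k = k' := by
      have h1 := List.all_eq_true.1 orb_ok k.val (List.mem_range.2 k.isLt)
      have h2 := List.all_eq_true.1 orb_ok k'.val (List.mem_range.2 k'.isLt)
      simp only [Bool.and_eq_true, decide_eq_true_eq] at h1 h2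
      refine Fin.ext ?_
      rw [← h1.1.1, ← h2.1.1, ← h1.1.2, ← h2.1.2, key]
    subst hk
    exact Prod.ext rfl (Subtype.ext (mul_right_cancel h'))
  have h := Nat.card_le_card_of_injective f hf
  have hW : Nat.card ↥E6.struct.WG = 51840 := by
    exact_mod_cast (E6.struct.natCard_WG E6.poincare).trans E6.weylCard
  rw [Nat.card_prod, Nat.card_fin, hW] at h
  omega

omit hl

/-- The root permutation of a word of the stabiliser. -/
noncomputable def stW (m : Fin 24) : Equiv.Perm (Fin chevE6.nroots) := E6.struct.wpL (stabW.getD m.val [])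

theorem stW_val (m : Fin 24) (r : Fin chevE6.nroots) :
    (stW m r).val = E6.cert.wL ((stabW.getD m.val []).map Fin.val) r.val := E6.struct.wpL_val _ r

theorem stab_fix : ∀ (m : Fin 24) (r : Fin 72),
    ev (E6.cert.wL ((stabW.getD m.val []).map Fin.val) r.val) = ev r.val := by decide +kernel

theorem stab_inj : ∀ m m' : Fin 24, m ≠ m' → ∃ j : Fin 6,
    E6.cert.wL ((stabW.getD m.val []).map Fin.val) (chevE6.simple j.val) ≠
      E6.cert.wL ((stabW.getD m'.val []).map Fin.val) (chevE6.simple j.val) := by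
  decide +kernel

include hl

theorem Wst_eq : Wst l = Set.range stW := by
  have hinj : Function.Injective stW := fun m m' h => by
    by_contra hne
    obtain ⟨j, hj⟩ := stab_inj m m' hne
    have := congrArg (fun w : Equiv.Perm (Fin chevE6.nroots) => (w ⟨chevE6.simple j.val, (w_lt6 j j).2⟩).val) h
    rw [stW_val, stW_val] at this
    exact hj this
  have hsub : Set.range stW ⊆ Wst l := by
    rintro _ ⟨m, rfl⟩
    refine ⟨E6.struct.wpL_mem_WG _, fun r => ?_⟩
    rw [stW_val]
    show chi chevE6 (c0 l) (E6.cert.wL _ r.val) = _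
    rw [chi_c0 hl, chi_c0 hl]
    exact congrArg (fun n : ℕ => Lam l (n : ZMod 5)) (stab_fix m ⟨r.val, r.isLt⟩)
  refine (Set.eq_of_subset_of_ncard_le hsub ?_ (Set.toFinite _)).symm
  rw [Set.ncard_range_of_injective hinj, Nat.card_fin, ← Nat.card_coe_set_eq]
  exact card_Wst_le hl

end Cfsg.Lib.TwFive
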