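import Cfsg.Agent.Chev.InvSemi.CentCount
import Cfsg.Agent.Chev.Graph
import Cfsg.Agent.Chev.SL2
import Cfsg.Agent.Chev.Tw.Setup
import Cfsg.Agent.Chev.Types

/-!
The twisted Frobenius composed with a reflection, over a field of characteristic two in which the element of
order five is split.
-/

set_option autoImplicit false

open Cfsg.Lie Matrix

namespace Cfsg.Lib.TwFive

open Cfsg.Lib.Chev

variable {L : Type*} [Field L] [CharP L 2]

theorem int_one {z : ℤ} (h : z = 1 ∨ z = -1) : (z : L) = 1 := by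
  rcases h with rfl | rfl <;> simp [CharTwo.neg_eq]

theorem eta_one (i r : ℕ) : (E6.cert.eta i r : L) = 1 :=
  (mul_self_eq_one_iff.1 (Ok.eta_sq E6.cert i r)).elim id (fun h => h.trans (CharTwo.neg_eq 1))

/-- The squaring map. -/
noncomputable def frob : L →+* L := haveI : Fact (Nat.Prime 2) := ⟨Nat.prime_two⟩; frobenius L 2

theorem frob_apply (t : L) : frob t = t ^ 2 := rfl

/-- The graph automorphism composed with squaring. -/
noncomputable def sg : GL chevE6.Idx L →* GL chevE6.Idx L :=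
  (GTab.glHom E6.struct.ok E6.graph_ok).comp (Matrix.GeneralLinearGroup.map frob)

/-- The image of a root under the graph automorphism. -/
noncomputable def rh (r : ℕ) : ℕ := E6.graph.rho chevE6.rank r

theorem rh_lt {r : ℕ} (hr : r < 72) : rh r < 72 := GTab.rho_lt E6.struct.ok E6.graph_ok hr

theorem rh_neg : ∀ r : Fin 72, rh (chevE6.neg r.val) = chevE6.neg (rh r.val) ∧ chevE6.neg r.val < 72 := by
  decide +kernel

theorem rh_val : rh 56 = 36 ∧ rh 36 = 56 ∧ rh 15 = 35 ∧ rh 35 = 15 := by decide +kernel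

theorem sg_xG {r : ℕ} (hr : r < 72) (t : L) : sg (E6.struct.ok.xG r t) = E6.struct.ok.xG (rh r) (t ^ 2) := by
  have e : Matrix.GeneralLinearGroup.map frob (E6.struct.ok.xG r t) = E6.struct.ok.xG r (t ^ 2) :=
    Units.ext (Ok.map_x chevE6 frob r t)
  rw [sg, MonoidHom.comp_apply, e, GTab.glHom_xG E6.struct.ok E6.graph_ok hr,
    int_one (GTab.eps_cases E6.struct.ok E6.graph_ok hr), one_mul]
  rfl

theorem sg_nG {r : ℕ} (hr : r < 72) (t : L) : sg (E6.struct.ok.nG r t) = E6.struct.ok.nG (rh r) (t ^ 2) := by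
  obtain ⟨h1, h2⟩ := rh_neg ⟨r, hr⟩
  simp only [Ok.nG, map_mul, sg_xG hr, sg_xG h2, h1, CharTwo.neg_eq, inv_pow]

theorem sg_hG {r : ℕ} (hr : r < 72) (t : L) : sg (E6.struct.ok.hG r t) = E6.struct.ok.hG (rh r) (t ^ 2) := by
  simp only [Ok.hG, map_mul, sg_nG hr, neg_one_sq, CharTwo.neg_eq, one_pow]

/-- The representative of the first fundamental reflection. -/
noncomputable def nn : GL chevE6.Idx L := E6.struct.ok.nG (chevE6.simple 0) 1

/-- The automorphism whose fixed points are conjugate to the twisted group. -/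
noncomputable def Fp : GL chevE6.Idx L →* GL chevE6.Idx L := (MulAut.conj nn).toMonoidHom.comp sg

/-- The action on the roots. -/
noncomputable def fr (r : ℕ) : ℕ := E6.cert.w 0 (rh r)

theorem Fp_apply (g : GL chevE6.Idx L) : Fp g = nn * sg g * nn⁻¹ := rfl

theorem Fp_xG {r : ℕ} (hr : r < 72) (t : L) : Fp (E6.struct.ok.xG r t) = E6.struct.ok.xG (fr r) (t ^ 2) := by
  rw [Fp_apply, sg_xG hr, nn]
  exact (E6.struct.ok.conj_nG_xG (F := L) (i := 0) (by decide) (rh_lt hr) (t ^ 2)).trans
    (by rw [eta_one, one_mul]; rfl)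

theorem nn_mem : (nn : GL chevE6.Idx L) ∈ chevE6.monomialSubgroup L := E6.struct.nG_mem_mono ⟨0, by decide⟩

theorem Fp_diag {d : GL chevE6.Idx L} (hd : d ∈ chevE6.diagonalSubgroup L) :
    Fp d ∈ chevE6.diagonalSubgroup L := by
  have h : sg d ∈ chevE6.diagonalSubgroup L := by
    refine (show chevE6.diagonalSubgroup L ≤ (chevE6.diagonalSubgroup L).comap sg from
      (Subgroup.closure_le _).2 ?_) hd
    rintro g ⟨r, t, hr, ht, hg⟩
    have hr' : r < 72 := hr
    have e : g = E6.struct.ok.hG r t := Units.ext (hg.trans (E6.struct.ok.val_hG r t).symm)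
    rw [SetLike.mem_coe, Subgroup.mem_comap, e, sg_hG hr']
    exact Subgroup.subset_closure ⟨rh r, t ^ 2, rh_lt hr', pow_ne_zero 2 ht, E6.struct.ok.val_hG _ _⟩
  exact E6.struct.norm_diag nn_mem h

theorem Fp_mono {g : GL chevE6.Idx L} (hg : g ∈ chevE6.monomialSubgroup L) :
    Fp g ∈ chevE6.monomialSubgroup L := by
  have h : sg g ∈ chevE6.monomialSubgroup L := by
    refine (show chevE6.monomialSubgroup L ≤ (chevE6.monomialSubgroup L).comap sg from sup_le ?_
      ((Subgroup.closure_le _).2 ?_)) hg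
    · refine (Subgroup.closure_le _).2 ?_
      rintro z ⟨r, t, hr, ht, hz⟩
      have hr' : r < 72 := hr
      have e : z = E6.struct.ok.hG r t := Units.ext (hz.trans (E6.struct.ok.val_hG r t).symm)
      rw [SetLike.mem_coe, Subgroup.mem_comap, e, sg_hG hr']
      exact Subgroup.mem_sup_left
        (Subgroup.subset_closure ⟨rh r, t ^ 2, rh_lt hr', pow_ne_zero 2 ht, E6.struct.ok.val_hG _ _⟩)
    · rintro z ⟨r, hr, hz⟩
      have hr' : r < 72 := hr
      have e : z = E6.struct.ok.nG r 1 := Units.ext (hz.trans (E6.struct.ok.val_nG r 1).symm)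
      rw [SetLike.mem_coe, Subgroup.mem_comap, e, sg_nG hr', one_pow]
      exact Subgroup.mem_sup_right (Subgroup.subset_closure ⟨rh r, rh_lt hr', E6.struct.ok.val_nG _ _⟩)
  exact mul_mem (mul_mem nn_mem h) (inv_mem nn_mem)

/-- The roots fixed by the splitting torus element lie in a subsystem fixed by the action. -/
noncomputable def ev (r : ℕ) : ℕ := ((chevE6.cartan 0 r + 2 * chevE6.cartan 5 r) % 5).toNat

theorem fr_fix : ∀ r : Fin 72, ev r.val = 0 → fr r.val = r.val := by decide +kernel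

theorem Fp_pw (t : ℕ → L) (ht : ∀ r, 36 ≤ r → r < 72 → ev r ≠ 0 → t r = 0) :
    Fp (E6.struct.pw 36 t) = E6.struct.pw 36 (fun r => t r ^ 2) := by
  unfold Struct.pw
  rw [map_list_prod, List.map_map]
  congr 1
  refine List.map_congr_left fun r hr => ?_
  rw [List.mem_range'_1] at hr
  have hn : chevE6.nroots = 72 := rfl
  have h2 : r < 72 := by omega
  rw [Function.comp_apply, Fp_xG h2]
  by_cases he : ev r = 0
  · rw [fr_fix ⟨r, h2⟩ he]
  · simp only [ht r hr.1 h2 he, zero_pow two_ne_zero, Ok.xG_zero]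

end Cfsg.Lib.TwFive
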